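import Groth.Agent.GrpField.Translate
import Groth.Agent.GrpAct.PointAlg
import Groth.Agent.ClosedRep.Over
import Mathlib.AlgebraicGeometry.AlgClosed.Basic
import Mathlib.RingTheory.Ideal.KrullsHeightTheorem

/-!
# Points in an algebraically closed field, and dense products of irreducible sets of points
-/

universe u v

open CategoryTheory CategoryTheory.Limits MonoidalCategory CartesianMonoidalCategory MonObj GrpObj AlgebraicGeometry
open scoped Pointwise

set_option backward.isDefEq.respectTransparency false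

noncomputable section

namespace Groth.Agent.SubGen

variable (k L : Type u) [Field k] [Field L] [Algebra k L] [IsAlgClosed L]

/-- the point with values in `L` -/
abbrev ptL : Over (Spec (CommRingCat.of k)) := Over.mk (Spec.map (CommRingCat.ofHom (algebraMap k L)))

variable {k L} {Y Z : Over (Spec (CommRingCat.of k))}

/-- the point of `Y ⊗ L` below an `L`-point of `Y` -/
def lpt (a : ptL k L ⟶ Y) : (Y ⊗ ptL k L).left :=
  (lift a (𝟙 _)).left (IsLocalRing.closedPoint L)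

theorem lift_left_snd (a : ptL k L ⟶ Y) :
    (lift a (𝟙 (ptL k L))).left ≫ (snd Y (ptL k L)).left = 𝟙 _ := by
  rw [← Over.comp_left, lift_snd]; rfl

instance lft_snd_ptL [LocallyOfFiniteType Y.hom] : LocallyOfFiniteType (snd Y (ptL k L)).left :=
  inferInstanceAs (LocallyOfFiniteType (pullback.snd Y.hom (ptL k L).hom))

theorem jacobson_ptL [LocallyOfFiniteType Y.hom] : JacobsonSpace (Y ⊗ ptL k L).left :=
  LocallyOfFiniteType.jacobsonSpace (Y := Spec (CommRingCat.of L)) (snd Y (ptL k L)).left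

theorem isLocallyNoetherian_ptL [LocallyOfFiniteType Y.hom] : IsLocallyNoetherian (Y ⊗ ptL k L).left :=
  LocallyOfFiniteType.isLocallyNoetherian (Y := Spec (CommRingCat.of L)) (snd Y (ptL k L)).left

theorem lpt_mem_closedPoints [LocallyOfFiniteType Y.hom] (a : ptL k L ⟶ Y) :
    lpt a ∈ closedPoints (Y ⊗ ptL k L).left :=
  ((pointEquivClosedPoint (X := (Y ⊗ ptL k L).left) (K := L) (snd Y (ptL k L)).left)
    ⟨(lift a (𝟙 (ptL k L))).left, lift_left_snd a⟩).2

theorem lpt_injective [LocallyOfFiniteType Y.hom] : Function.Injective (lpt : (ptL k L ⟶ Y) → _) := by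
  intro a b h
  have e : lift a (𝟙 (ptL k L)) = lift b (𝟙 _) := Over.OverMorphism.ext
    (ext_of_apply_closedPoint_eq (K := L) (snd Y (ptL k L)).left (lift_left_snd a) (lift_left_snd b) h)
  rw [← lift_fst a (𝟙 (ptL k L)), e, lift_fst]

theorem exists_lpt [LocallyOfFiniteType Y.hom] {w : (Y ⊗ ptL k L).left}
    (hw : w ∈ closedPoints (Y ⊗ ptL k L).left) : ∃ a, lpt a = w := by
  let p := pointOfClosedPoint (X := (Y ⊗ ptL k L).left) (K := L) (snd Y (ptL k L)).left w hw
  have hp : p ≫ (snd Y (ptL k L)).left = 𝟙 _ := pointOfClosedPoint_comp _ _ _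
  let q : ptL k L ⟶ Y ⊗ ptL k L := Over.homMk p (by
    rw [← Over.w (snd Y (ptL k L)), reassoc_of% hp]; first | done | rfl)
  refine ⟨q ≫ fst _ _, ?_⟩
  have e : lift (q ≫ fst Y (ptL k L)) (𝟙 _) = q := by
    apply CartesianMonoidalCategory.hom_ext
    · rw [lift_fst]
    · rw [lift_snd]; exact (Over.OverMorphism.ext hp).symm
  show (lift (q ≫ fst Y (ptL k L)) (𝟙 _)).left _ = w
  rw [e]
  exact pointOfClosedPoint_apply _ _ _ _

theorem map_lpt (h : Y ⟶ Z) (a : ptL k L ⟶ Y) :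
    (h ▷ ptL k L).left (lpt a) = lpt (a ≫ h) := by
  rw [lpt, lpt, ← Scheme.Hom.comp_apply, ← Over.comp_left, lift_whiskerRight]

theorem exists_lift_lpt [LocallyOfFiniteType Y.hom] [LocallyOfFiniteType Z.hom] (h : Y ⟶ Z)
    (b : ptL k L ⟶ Z) (hb : lpt b ∈ Set.range (h ▷ ptL k L).left) : ∃ a, a ≫ h = b := by
  haveI := jacobson_ptL (k := k) (L := L) (Y := Y)
  have hcl : IsClosed ((h ▷ ptL k L).left ⁻¹' {lpt b}) :=
    (lpt_mem_closedPoints b).preimage (h ▷ ptL k L).left.continuous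
  obtain ⟨y₀, hy₀⟩ := hb
  obtain ⟨y, hy, hyc⟩ := nonempty_inter_closedPoints (Z := (h ▷ ptL k L).left ⁻¹' {lpt b})
    ⟨y₀, hy₀⟩ hcl.isLocallyClosed
  obtain ⟨a, rfl⟩ := exists_lpt hyc
  exact ⟨a, lpt_injective ((map_lpt h a).symm.trans hy)⟩

theorem closure_lpt [LocallyOfFiniteType Y.hom] {V : Set (Y ⊗ ptL k L).left} (hV : IsClosed V) :
    closure (lpt '' {a : ptL k L ⟶ Y | lpt a ∈ V}) = V := by
  haveI := jacobson_ptL (k := k) (L := L) (Y := Y)
  have e : lpt '' {a : ptL k L ⟶ Y | lpt a ∈ V} = V ∩ closedPoints _ := by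
    ext w
    constructor
    · rintro ⟨a, ha, rfl⟩; exact ⟨ha, lpt_mem_closedPoints a⟩
    · rintro ⟨hw, hw'⟩; obtain ⟨a, rfl⟩ := exists_lpt hw'; exact ⟨a, hw, rfl⟩
  rw [e, JacobsonSpace.closure_inter_closedPoints_eq_closure hV.isLocallyClosed, hV.closure_eq]

section group

variable {G : Over (Spec (CommRingCat.of k))} [GrpObj G]

open GrpField

theorem trR_lpt (a c : ptL k L ⟶ G) : homeo (trR c) (lpt a) = lpt (a * c) := by
  rw [homeo_apply, lpt, lpt, ← Scheme.Hom.comp_apply, ← Over.comp_left,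
    show lift a (𝟙 _) ≫ (trR c).hom = lift (a * c) (𝟙 _) by
      apply CartesianMonoidalCategory.hom_ext <;> simp [trR, MonObj.comp_mul]]

theorem trL_lpt (a c : ptL k L ⟶ G) : homeo (trL c) (lpt a) = lpt (c * a) := by
  rw [homeo_apply, lpt, lpt, ← Scheme.Hom.comp_apply, ← Over.comp_left,
    show lift a (𝟙 _) ≫ (trL c).hom = lift (c * a) (𝟙 _) by
      apply CartesianMonoidalCategory.hom_ext <;> simp [trL, MonObj.comp_mul]]

theorem trI_lpt (a c : ptL k L ⟶ G) : homeo (trI c) (lpt a) = lpt (a⁻¹ * c) := by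
  rw [homeo_apply, lpt, lpt, ← Scheme.Hom.comp_apply, ← Over.comp_left,
    show lift a (𝟙 _) ≫ (trI c).hom = lift (a⁻¹ * c) (𝟙 _) by
      apply CartesianMonoidalCategory.hom_ext <;> simp [trI, MonObj.comp_mul, GrpObj.comp_inv]]

theorem isPreirreducible_inv {A : Set (ptL k L ⟶ G)} (hA : IsPreirreducible (lpt '' A)) :
    IsPreirreducible (lpt '' A⁻¹) := by
  have e : lpt '' A⁻¹ = homeo (trI (1 : ptL k L ⟶ G)) '' (lpt '' A) := by
    rw [Set.image_image]
    simp only [trI_lpt, _root_.mul_one]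
    rw [← Set.image_inv_eq_inv, Set.image_image]
  rw [e]
  exact hA.image _ (homeo _).continuous.continuousOn

theorem isPreirreducible_mul {A B : Set (ptL k L ⟶ G)} (hA : IsPreirreducible (lpt '' A))
    (hB : IsPreirreducible (lpt '' B)) : IsPreirreducible (lpt '' (A * B)) := by
  rintro U V hU hV ⟨_, ⟨_, ⟨a₁, ha₁, b₁, hb₁, rfl⟩, rfl⟩, hu⟩ ⟨_, ⟨_, ⟨a₂, ha₂, b₂, hb₂, rfl⟩, rfl⟩, hv⟩
  obtain ⟨_, ⟨b, hb, rfl⟩, h1, h2⟩ := hB (homeo (trL a₁) ⁻¹' U) (homeo (trL a₂) ⁻¹' V)
    (hU.preimage (homeo _).continuous) (hV.preimage (homeo _).continuous)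
    ⟨lpt b₁, ⟨b₁, hb₁, rfl⟩, by rw [Set.mem_preimage, trL_lpt]; exact hu⟩
    ⟨lpt b₂, ⟨b₂, hb₂, rfl⟩, by rw [Set.mem_preimage, trL_lpt]; exact hv⟩
  rw [Set.mem_preimage, trL_lpt] at h1 h2
  obtain ⟨_, ⟨a, ha, rfl⟩, h3, h4⟩ := hA (homeo (trR b) ⁻¹' U) (homeo (trR b) ⁻¹' V)
    (hU.preimage (homeo _).continuous) (hV.preimage (homeo _).continuous)
    ⟨lpt a₁, ⟨a₁, ha₁, rfl⟩, by rw [Set.mem_preimage, trR_lpt]; exact h1⟩
    ⟨lpt a₂, ⟨a₂, ha₂, rfl⟩, by rw [Set.mem_preimage, trR_lpt]; exact h2⟩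
  rw [Set.mem_preimage, trR_lpt] at h3 h4
  exact ⟨_, ⟨a * b, Set.mul_mem_mul ha hb, rfl⟩, h3, h4⟩

variable {Idx : Type v} (S : Idx → Set (ptL k L ⟶ G))

theorem one_mem_prod (h1 : ∀ i, (1 : ptL k L ⟶ G) ∈ S i) : ∀ l : List Idx, (1 : ptL k L ⟶ G) ∈ (l.map S).prod
  | [] => by simp
  | i :: l => by
    rw [List.map_cons, List.prod_cons]
    exact ⟨1, h1 i, 1, one_mem_prod h1 l, _root_.one_mul 1⟩

theorem isPreirreducible_prod (hS : ∀ i, IsPreirreducible (lpt '' S i)) :
    ∀ l : List Idx, IsPreirreducible (lpt '' (l.map S).prod)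
  | [] => by
    rw [List.map_nil, List.prod_nil, ← Set.singleton_one, Set.image_singleton]
    exact isPreirreducible_singleton
  | i :: l => by
    rw [List.map_cons, List.prod_cons]
    exact isPreirreducible_mul (hS i) (isPreirreducible_prod hS l)

/-- Products of irreducible sets of points through the unit stabilise. -/
theorem exists_dense_product [LocallyOfFiniteType G.hom] (h1 : ∀ i, (1 : ptL k L ⟶ G) ∈ S i)
    (hS : ∀ i, IsPreirreducible (lpt '' S i)) :
    ∃ l : List Idx, ∀ l' : List Idx, lpt '' (l'.map S).prod ⊆ closure (lpt '' (l.map S).prod) := by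
  haveI := isLocallyNoetherian_ptL (k := k) (L := L) (Y := G)
  obtain ⟨U, hU, h1U, -⟩ := exists_isAffineOpen_mem_and_subset (X := (G ⊗ ptL k L).left)
    (x := lpt (1 : ptL k L ⟶ G)) (U := ⊤) trivial
  haveI : IsNoetherianRing Γ((G ⊗ ptL k L).left, U) := IsLocallyNoetherian.component_noetherian ⟨U, hU⟩
  let C : List Idx → Set (G ⊗ ptL k L).left := fun l => closure (lpt '' (l.map S).prod)
  have hC1 : ∀ l, lpt (1 : ptL k L ⟶ G) ∈ C l := fun l => subset_closure ⟨1, one_mem_prod S h1 l, rfl⟩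
  have hCi : ∀ l, IsIrreducible (C l) := fun l => ⟨⟨_, hC1 l⟩, (isPreirreducible_prod S hS l).closure⟩
  let ζ : List Idx → (G ⊗ ptL k L).left := fun l => (hCi l).genericPoint
  have hζ : ∀ l, IsGenericPoint (ζ l) (C l) := fun l => (hCi l).isGenericPoint_genericPoint isClosed_closure
  have hζU : ∀ l, ζ l ∈ U := fun l => ((hζ l).specializes (hC1 l)).mem_open U.2 h1U
  let p : List Idx → PrimeSpectrum Γ((G ⊗ ptL k L).left, U) := fun l => hU.primeIdealOf ⟨ζ l, hζU l⟩
  obtain ⟨_, ⟨l, rfl⟩, hmin⟩ := wellFounded_lt.has_min (Set.range fun l => (p l).asIdeal.height)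
    ⟨_, [], rfl⟩
  have key : ∀ i, C (l ++ [i]) = C l := fun i => by
    have hsub : C l ⊆ C (l ++ [i]) := closure_mono (Set.image_mono fun a ha => by
      rw [List.map_append, List.prod_append, List.map_singleton, List.prod_singleton]
      exact ⟨a, ha, 1, h1 i, _root_.mul_one a⟩)
    have hsp : ζ (l ++ [i]) ⤳ ζ l := (hζ _).specializes (hsub (hζ l).mem)
    have hle : p (l ++ [i]) ≤ p l := by
      rw [PrimeSpectrum.le_iff_specializes, ← hU.fromSpec.isOpenEmbedding.isInducing.specializes_iff]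
      erw [hU.fromSpec_primeIdealOf, hU.fromSpec_primeIdealOf]
      exact hsp
    rcases hle.eq_or_lt with h | h
    · have e : ζ (l ++ [i]) = ζ l := by
        have := congrArg hU.fromSpec h
        erw [hU.fromSpec_primeIdealOf, hU.fromSpec_primeIdealOf] at this
        exact this
      rw [← (hζ _).def, ← (hζ l).def, e]
    · refine absurd (Ideal.height_strict_mono_of_isPrime_of_isPrime
        (show (p (l ++ [i])).asIdeal < (p l).asIdeal from h)) (hmin _ ⟨l ++ [i], rfl⟩)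
  refine ⟨l, ?_⟩
  suffices H : ∀ (l' : List Idx) (a : ptL k L ⟶ G), lpt a ∈ C l → ∀ x ∈ (l'.map S).prod, lpt (a * x) ∈ C l by
    intro l'
    rintro _ ⟨x, hx, rfl⟩
    simpa using H l' 1 (hC1 l) x hx
  intro l'
  induction l' with
  | nil =>
    intro a ha x hx
    rw [List.map_nil, List.prod_nil, Set.mem_one] at hx
    rwa [hx, _root_.mul_one]
  | cons i l' ih =>
    intro a ha x hx
    rw [List.map_cons, List.prod_cons] at hx
    obtain ⟨s, hs, x', hx', rfl⟩ := hx
    rw [← _root_.mul_assoc]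
    refine ih _ ?_ x' hx'
    rw [← trR_lpt, ← key i]
    refine map_mem_closure (homeo (trR s)).continuous ha ?_
    rintro _ ⟨b, hb, rfl⟩
    rw [trR_lpt]
    refine ⟨b * s, ?_, rfl⟩
    rw [List.map_append, List.prod_append, List.map_singleton, List.prod_singleton]
    exact Set.mul_mem_mul hb hs

end group

end Groth.Agent.SubGen
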