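import Groth.Agent.SubGen.Basic
import Groth.Agent.GrpAct.PointAlg

/-!
# Words as lists of signed points
-/

universe u

open CategoryTheory CategoryTheory.Limits MonoidalCategory CartesianMonoidalCategory MonObj GrpObj AlgebraicGeometry

set_option backward.isDefEq.respectTransparency false

noncomputable section

namespace Groth.Agent.SubGen

variable {k : Type u} [Field k] {G X : Over (Spec (CommRingCat.of k))} [GrpObj G] (f : X ⟶ G)

/-- a signed product of points -/
abbrev sprod {T : Over (Spec (CommRingCat.of k))} {n : ℕ} (x : Fin n → (T ⟶ X)) (ε : Fin n → Bool) : T ⟶ G :=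
  (List.ofFn fun j : Fin n => if ε j then x j ≫ f else (x j ≫ f)⁻¹).prod

theorem comp_letter {T : Over (Spec (CommRingCat.of k))} (a : T ⟶ X) (b : Bool) :
    a ≫ letter f b = if b then a ≫ f else (a ≫ f)⁻¹ := by
  cases b <;> simp [letter, GrpObj.comp_inv]

/-- a signed product is a point of a word -/
theorem exists_src {T : Over (Spec (CommRingCat.of k))} : ∀ {n : ℕ} (x : Fin n → (T ⟶ X)) (ε : Fin n → Bool),
    ∃ a : T ⟶ src X (List.ofFn ε), a ≫ word f (List.ofFn ε) = sprod f x ε
  | 0, x, ε => ⟨toUnit T, by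
      show toUnit T ≫ word f [] = _
      rw [comp_word_nil, sprod, List.ofFn_zero, List.prod_nil]⟩
  | n + 1, x, ε => by
    obtain ⟨a, ha⟩ := exists_src (fun j : Fin n => x j.succ) (fun j => ε j.succ)
    rw [List.ofFn_succ]
    refine ⟨lift (x 0) a, ?_⟩
    rw [comp_word_cons, lift_fst, lift_snd, comp_letter, ha]
    show _ = (List.ofFn _).prod
    rw [List.ofFn_succ (f := fun j : Fin (n + 1) => if ε j then x j ≫ f else (x j ≫ f)⁻¹), List.prod_cons]

/-- a point of a word is a signed product -/
theorem exists_sprod {T : Over (Spec (CommRingCat.of k))} : ∀ (l : List Bool) (a : T ⟶ src X l),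
    ∃ x : Fin l.length → (T ⟶ X), sprod f x l.get = a ≫ word f l
  | [], a => ⟨Fin.elim0, by rw [comp_word_nil, sprod]; simp⟩
  | b :: l, a => by
    obtain ⟨x, hx⟩ := exists_sprod l (a ≫ snd X (src X l))
    refine ⟨Fin.cons (a ≫ fst X (src X l)) x, ?_⟩
    rw [comp_word_cons, comp_letter, ← hx]
    show (List.ofFn _).prod = _
    rw [List.ofFn_succ, List.prod_cons]
    simp [Fin.cons_succ]
    rfl

theorem qc_src (X : Over (Spec (CommRingCat.of k))) [QuasiCompact X.hom] :
    ∀ l, QuasiCompact (src X l).hom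
  | [] => inferInstanceAs (QuasiCompact (𝟙 (Spec (CommRingCat.of k))))
  | _ :: l => by
    haveI := qc_src X l
    haveI : QuasiCompact (pullback.fst X.hom (src X l).hom) := MorphismProperty.pullback_fst _ _ ‹_›
    exact inferInstanceAs (QuasiCompact (pullback.fst X.hom (src X l).hom ≫ X.hom))

theorem lft_src (X : Over (Spec (CommRingCat.of k))) [LocallyOfFiniteType X.hom] :
    ∀ l, LocallyOfFiniteType (src X l).hom
  | [] => inferInstanceAs (LocallyOfFiniteType (𝟙 (Spec (CommRingCat.of k))))
  | _ :: l => by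
    haveI := lft_src X l
    haveI : LocallyOfFiniteType (pullback.fst X.hom (src X l).hom) := MorphismProperty.pullback_fst _ _ ‹_›
    exact inferInstanceAs (LocallyOfFiniteType (pullback.fst X.hom (src X l).hom ≫ X.hom))

section closed

variable [IsAlgClosed k]

/-- a rational point whose image is in the range lifts to a rational point -/
theorem exists_rat_lift {Z Y : Over (Spec (CommRingCat.of k))} [LocallyOfFiniteType Z.hom]
    [LocallyOfFiniteType Y.hom] (h : Z ⟶ Y) (y : 𝟙_ (Over (Spec (CommRingCat.of k))) ⟶ Y)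
    (p₀ : (𝟙_ (Over (Spec (CommRingCat.of k)))).left) (hy : y.left p₀ ∈ Set.range h.left) :
    ∃ z : 𝟙_ (Over (Spec (CommRingCat.of k))) ⟶ Z, z ≫ h = y := by
  haveI : Subsingleton (𝟙_ (Over (Spec (CommRingCat.of k)))).left :=
    inferInstanceAs (Subsingleton (PrimeSpectrum k))
  let Φ := pullback h.left y.left
  let P : Over (Spec (CommRingCat.of k)) := Over.mk (pullback.fst h.left y.left ≫ Z.hom)
  haveI : LocallyOfFiniteType y.left := by
    haveI : LocallyOfFiniteType (y.left ≫ Y.hom) := by
      rw [Over.w]; exact inferInstanceAs (LocallyOfFiniteType (𝟙 (Spec (CommRingCat.of k))))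
    exact locallyOfFiniteType_of_comp y.left Y.hom
  haveI : LocallyOfFiniteType (pullback.fst h.left y.left) := MorphismProperty.pullback_fst _ _ ‹_›
  haveI : LocallyOfFiniteType P.hom :=
    inferInstanceAs (LocallyOfFiniteType (pullback.fst h.left y.left ≫ Z.hom))
  haveI : Nonempty P.left := by
    obtain ⟨z, hz⟩ := hy
    obtain ⟨w, -, -⟩ := Scheme.Pullback.exists_preimage_pullback z p₀ hz
    exact ⟨w⟩
  haveI : JacobsonSpace P.left := LocallyOfFiniteType.jacobsonSpace P.hom
  obtain ⟨w, -, hwcl⟩ := nonempty_inter_closedPoints (Z := (Set.univ : Set P.left))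
    Set.univ_nonempty isOpen_univ.isLocallyClosed
  obtain ⟨p, -⟩ := GrpAct.exists_point (K := k) w hwcl
  have hp : p.left ≫ P.hom = 𝟙 _ := by
    rw [Over.w p]
    show Spec.map (CommRingCat.ofHom (algebraMap k k)) = _
    rw [Algebra.algebraMap_self, CommRingCat.ofHom_id, Spec.map_id]
    rfl
  let z : 𝟙_ (Over (Spec (CommRingCat.of k))) ⟶ Z :=
    Over.homMk (p.left ≫ pullback.fst h.left y.left) (by rw [Category.assoc]; exact hp)
  refine ⟨z, Over.OverMorphism.ext ?_⟩
  show (p.left ≫ pullback.fst h.left y.left) ≫ h.left = y.left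
  rw [Category.assoc, pullback.condition, ← Category.assoc]
  have e : p.left ≫ pullback.snd h.left y.left = 𝟙 _ := by
    have h1 : p.left ≫ pullback.snd h.left y.left ≫ (𝟙_ (Over (Spec (CommRingCat.of k)))).hom = 𝟙 _ := by
      rw [← Over.w y, ← pullback.condition_assoc, Over.w h]; exact hp
    exact (congrArg (p.left ≫ ·) (Category.comp_id _)).symm.trans h1
  rw [e]
  exact Category.id_comp _

end closed

end Groth.Agent.SubGen
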