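import Groth.Agent.SubGen.SeriesLocus

/-!
# The generated commutator subgroup on geometric points
-/

universe u

open CategoryTheory CategoryTheory.Limits MonoidalCategory CartesianMonoidalCategory MonObj GrpObj AlgebraicGeometry
open scoped commutatorElement

set_option backward.isDefEq.respectTransparency false

noncomputable section

namespace Groth.Agent.SubGen

section base

variable {S T : Scheme.{u}} (φ : T ⟶ S) (G : Over S) [GrpObj G]

attribute [local instance] Functor.grpObjObj

/-- Points over `T` as sections of the base change. -/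
def ratEquiv : (Over.mk φ ⟶ G) ≃* (𝟙_ (Over T) ⟶ (Over.pullback φ).obj G) :=
  let e : (Over.map φ).obj (𝟙_ (Over T)) ≅ Over.mk φ := Over.isoMk (Iso.refl _) (by
    show 𝟙 _ ≫ φ = 𝟙 _ ≫ φ
    rfl)
  ({ toFun := fun x => e.hom ≫ x
     invFun := fun x => e.inv ≫ x
     left_inv := fun x => Iso.inv_hom_id_assoc e x
     right_inv := fun x => Iso.hom_inv_id_assoc e x
     map_mul' := fun x y => MonObj.comp_mul _ x y } :
    (Over.mk φ ⟶ G) ≃* ((Over.map φ).obj (𝟙_ (Over T)) ⟶ G)).trans (Locus.baseEquiv φ G _)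

theorem ratEquiv_left (x : Over.mk φ ⟶ G) :
    (ratEquiv φ G x).left = pullback.lift x.left (𝟙 T) (by rw [Over.w x]; exact (Category.id_comp φ).symm) := by
  apply pullback.hom_ext
  · simp [ratEquiv, Locus.baseEquiv, Adjunction.homEquiv_unit]
    exact Category.id_comp _
  · simp [ratEquiv, Locus.baseEquiv, Adjunction.homEquiv_unit]

theorem ratEquiv_comp {H : Over S} [GrpObj H] (x : Over.mk φ ⟶ H) (h : H ⟶ G) :
    ratEquiv φ G (x ≫ h) = ratEquiv φ H x ≫ (Over.pullback φ).map h := by
  refine Over.OverMorphism.ext ?_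
  rw [Over.comp_left, ratEquiv_left, ratEquiv_left]
  apply pullback.hom_ext <;> simp

theorem range_postHom {k : Type u} [Field k] (φ : Spec (CommRingCat.of k) ⟶ S) {H : Over S} [GrpObj H] (h : H ⟶ G) [IsMonHom h]
    [IsMonHom ((Over.pullback φ).map h)] :
    ((postHom ((Over.pullback φ).map h)).range : Set _) =
      ratEquiv φ G '' Set.range (fun x : Over.mk φ ⟶ H => x ≫ h) := by
  ext z
  constructor
  · rintro ⟨x, rfl⟩
    obtain ⟨x, rfl⟩ := (ratEquiv φ H).surjective x
    exact ⟨x ≫ h, ⟨x, rfl⟩, ratEquiv_comp φ G x h⟩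
  · rintro ⟨_, ⟨x, rfl⟩, rfl⟩
    exact ⟨ratEquiv φ H x, (ratEquiv_comp φ G x h).symm⟩

theorem isNormalHom_pullback {H : Over S} [GrpObj H] (h : H ⟶ G) (hN : AlgGrp.IsNormalHom h) :
    AlgGrp.IsNormalHom ((Over.pullback φ).map h) := by
  intro Y g n
  obtain ⟨n', hn'⟩ := hN _ ((Locus.baseEquiv φ G Y).symm g) ((Locus.baseEquiv φ H Y).symm n)
  refine ⟨Locus.baseEquiv φ H Y n', ?_⟩
  have key : ∀ y, Locus.baseEquiv φ G Y (y ≫ h) = Locus.baseEquiv φ H Y y ≫ (Over.pullback φ).map h := fun y =>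
    (Over.mapPullbackAdj φ).homEquiv_naturality_right y h
  rw [← key, ← hn', map_mul, map_mul, map_inv, MulEquiv.apply_symm_apply, key, MulEquiv.apply_symm_apply]

end base

variable {k : Type u} [Field k] {L : Type u} [Field L] [Algebra k L] [IsAlgClosed L]
  {G A B : Over (Spec (CommRingCat.of k))} [GrpObj G] [GrpObj A] [GrpObj B] [LocallyOfFiniteType G.hom]

theorem rpt_ratEquiv (x : ptL k L ⟶ G) :
    rpt (ratEquiv (Spec.map (CommRingCat.ofHom (algebraMap k L))) G x) = lpt x := by
  show (ratEquiv _ G x).left _ = (lift x (𝟙 _)).left _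
  rw [ratEquiv_left]
  rfl

attribute [local instance] Functor.grpObjObj in
/-- The generated commutator subgroup on `L`-points consists of boundedly long products of commutators. -/
theorem exists_bound_geom (a : A ⟶ G) [IsMonHom a] (b : B ⟶ G) [IsMonHom b]
    [LocallyOfFiniteType A.hom] [LocallyOfFiniteType B.hom] [QuasiCompact A.hom] [QuasiCompact B.hom]
    [GeometricallyReduced A.hom] [GeometricallyReduced B.hom]
    (hAn : AlgGrp.IsNormalHom a) (hBn : AlgGrp.IsNormalHom b)
    {Γ : Over (Spec (CommRingCat.of k))} [GrpObj Γ] (i : Γ ⟶ G) [IsMonHom i]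
    (f' : A ⊗ B ⟶ Γ) (hf' : f' ≫ i = ⁅fst A B ≫ a, snd A B ≫ b⁆) (hd : JointlyDense (word f')) :
    ∃ N : ℕ, ∀ z : ptL k L ⟶ Γ, z ≫ i ∈
      bset {g | ∃ x : ptL k L ⟶ A, ∃ y : ptL k L ⟶ B, ⁅x ≫ a, y ≫ b⁆ = g} N := by
  let φ := Spec.map (CommRingCat.ofHom (algebraMap k L))
  let e := ratEquiv φ G
  haveI : LocallyOfFiniteType ((Over.pullback φ).obj G).hom := MorphismProperty.pullback_snd _ _ ‹_›
  haveI : LocallyOfFiniteType ((Over.pullback φ).obj A).hom := MorphismProperty.pullback_snd _ _ ‹_›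
  haveI : LocallyOfFiniteType ((Over.pullback φ).obj B).hom := MorphismProperty.pullback_snd _ _ ‹_›
  haveI : QuasiCompact ((Over.pullback φ).obj A).hom := MorphismProperty.pullback_snd _ _ ‹_›
  haveI : QuasiCompact ((Over.pullback φ).obj B).hom := MorphismProperty.pullback_snd _ _ ‹_›
  haveI : GeometricallyReduced ((Over.pullback φ).obj A).hom := MorphismProperty.pullback_snd _ _ ‹_›
  haveI : GeometricallyReduced ((Over.pullback φ).obj B).hom := MorphismProperty.pullback_snd _ _ ‹_›
  haveI : IsMonHom ((Over.pullback φ).map a) := inferInstance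
  haveI : IsMonHom ((Over.pullback φ).map b) := inferInstance
  obtain ⟨⟨N, hN⟩, RS, hRS, hRiff⟩ := exists_comm_bound ((Over.pullback φ).map a) ((Over.pullback φ).map b)
    (isNormalHom_pullback φ G a hAn) (isNormalHom_pullback φ G b hBn)
  let CS : Set (ptL k L ⟶ G) := {g | ∃ x : ptL k L ⟶ A, ∃ y : ptL k L ⟶ B, ⁅x ≫ a, y ≫ b⁆ = g}
  have hCS : {g | ∃ x ∈ (postHom ((Over.pullback φ).map a)).range, ∃ y ∈ (postHom ((Over.pullback φ).map b)).range, ⁅x, y⁆ = g} =
      e '' CS := by
    ext g
    simp only [← SetLike.mem_coe, range_postHom]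
    constructor
    · rintro ⟨_, ⟨_, ⟨x, rfl⟩, rfl⟩, _, ⟨_, ⟨y, rfl⟩, rfl⟩, rfl⟩
      exact ⟨_, ⟨x, y, rfl⟩, map_commutatorElement e _ _⟩
    · rintro ⟨_, ⟨x, y, rfl⟩, rfl⟩
      exact ⟨_, ⟨_, ⟨x, rfl⟩, rfl⟩, _, ⟨_, ⟨y, rfl⟩, rfl⟩, (map_commutatorElement e _ _).symm⟩
  rw [hCS, ← map_bset] at hN
  refine ⟨N, fun z => ?_⟩
  let C : Set (Γ ⊗ ptL k L).left := (i ▷ ptL k L).left ⁻¹' RS
  have hC : C = Set.univ := by
    let J := Scheme.IdealSheafData.vanishingIdeal
      (⟨C, hRS.preimage (i ▷ ptL k L).left.continuous⟩ : TopologicalSpace.Closeds (Γ ⊗ ptL k L).left)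
    let R : Over (Spec (CommRingCat.of k)) := Over.mk (J.subschemeι ≫ (Γ ⊗ ptL k L).hom)
    let r : R ⟶ Γ ⊗ ptL k L := Over.homMk J.subschemeι rfl
    haveI : IsClosedImmersion r.left := inferInstanceAs (IsClosedImmersion J.subschemeι)
    have hrange : Set.range r.left = C := by
      show Set.range J.subschemeι = C
      rw [Scheme.IdealSheafData.range_subschemeι]
      rfl
    haveI : GeometricallyReduced (A ⊗ B).hom := GeomRedPull.geometricallyReduced_pullback A.hom B.hom
    haveI : LocallyOfFiniteType (A ⊗ B).hom := by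
      haveI : LocallyOfFiniteType (pullback.fst A.hom B.hom) := MorphismProperty.pullback_fst _ _ ‹_›
      exact inferInstanceAs (LocallyOfFiniteType (pullback.fst A.hom B.hom ≫ A.hom))
    obtain ⟨c, hc⟩ := hd.factor (T := ptL k L) (𝟙 (Γ ⊗ ptL k L)) r fun m => by
      haveI := geometricallyReduced_src (A ⊗ B) m
      haveI := lft_src (A ⊗ B) m
      haveI : IsReduced (ptL k L).left := inferInstanceAs (IsReduced (Spec (CommRingCat.of L)))
      haveI : IsReduced (src (A ⊗ B) m ⊗ ptL k L).left := GeomRedPull.isReduced_pullback (src (A ⊗ B) m).hom (ptL k L).hom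
      have hsub : Set.range (word f' m ▷ ptL k L).left ⊆ C := by
        have huniv : (word f' m ▷ ptL k L).left ⁻¹' C = Set.univ := by
          rw [← Set.univ_subset_iff, ← closure_lpt (k := k) (L := L) (Y := src (A ⊗ B) m) isClosed_univ]
          refine closure_minimal ?_ ((hRS.preimage (i ▷ ptL k L).left.continuous).preimage (word f' m ▷ ptL k L).left.continuous)
          rintro _ ⟨t, -, rfl⟩
          rw [Set.mem_preimage, map_lpt, Set.mem_preimage, map_lpt, Category.assoc, word_comp, hf',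
            ← rpt_ratEquiv]
          refine (hRiff _).2 ?_
          have hw : ∀ (l : List Bool) (t : ptL k L ⟶ src (A ⊗ B) l),
              t ≫ word ⁅fst A B ≫ a, snd A B ≫ b⁆ l ∈ bset CS l.length := fun l t => by
            induction l with
            | nil => rw [comp_word_nil]; rfl
            | cons ε l ih =>
              rw [comp_word_cons, List.length_cons, Nat.add_comm, comp_letter]
              refine mul_mem_bset ?_ (ih _)
              have h : (t ≫ fst (A ⊗ B) (src (A ⊗ B) l)) ≫ ⁅fst A B ≫ a, snd A B ≫ b⁆ ∈ CS := by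
                rw [Locus.comp_comm]
                exact ⟨(t ≫ fst (A ⊗ B) (src (A ⊗ B) l)) ≫ fst A B, (t ≫ fst (A ⊗ B) (src (A ⊗ B) l)) ≫ snd A B, by
                  simp only [Category.assoc]⟩
              cases ε
              · exact inv_mem_bset (mem_bset_one h)
              · exact mem_bset_one h
          have h1 : e (t ≫ word ⁅fst A B ≫ a, snd A B ≫ b⁆ m) ∈ bset (e '' CS) m.length := by
            rw [← map_bset]; exact ⟨_, hw m t, rfl⟩
          rw [← hCS] at h1
          refine (Subgroup.closure_le _).2 ?_ (bset_subset_closure _ _ h1)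
          rintro _ ⟨x, hx, y, hy, rfl⟩
          exact Subgroup.commutator_mem_commutator hx hy
        rintro _ ⟨y, rfl⟩
        exact huniv.ge (Set.mem_univ y)
      obtain ⟨g, hg⟩ := RedSepLib.exists_lift_of_isReduced (word f' m ▷ ptL k L).left r.left (hrange ▸ hsub)
      refine ⟨Over.homMk g (by rw [← Over.w r, reassoc_of% hg, Over.w]), ?_⟩
      rw [Category.comp_id]
      exact Over.OverMorphism.ext hg.symm
    refine Set.eq_univ_of_forall fun w => ?_
    rw [← hrange]
    exact ⟨c.left w, by rw [← Scheme.Hom.comp_apply, ← Over.comp_left, ← hc]; rfl⟩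
  have hz : lpt z ∈ C := hC ▸ Set.mem_univ _
  rw [Set.mem_preimage, map_lpt, ← rpt_ratEquiv] at hz
  obtain ⟨g, hg, hge⟩ := hN ((hRiff _).1 hz)
  rw [e.injective hge] at hg
  exact hg

end Groth.Agent.SubGen
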