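import Groth.Agent.SubGen.Bounded
import Groth.Agent.Rigid.FibreTranslate

/-!
# Bounded generation over an algebraically closed field, with rational points
-/

universe u

open CategoryTheory CategoryTheory.Limits MonoidalCategory CartesianMonoidalCategory MonObj GrpObj AlgebraicGeometry

set_option backward.isDefEq.respectTransparency false

noncomputable section

namespace Groth.Agent.SubGen

variable {k : Type u} [Field k] {G X Y : Over (Spec (CommRingCat.of k))}

/-- the point below a rational point -/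
def rpt (q : 𝟙_ (Over (Spec (CommRingCat.of k))) ⟶ Y) : Y.left := q.left (IsLocalRing.closedPoint k)

theorem apply_eq_rpt (q : 𝟙_ (Over (Spec (CommRingCat.of k))) ⟶ Y)
    (t : (𝟙_ (Over (Spec (CommRingCat.of k)))).left) : q.left t = rpt q := by
  haveI : Subsingleton (𝟙_ (Over (Spec (CommRingCat.of k)))).left :=
    inferInstanceAs (Subsingleton (PrimeSpectrum k))
  exact congrArg _ (Subsingleton.elim _ _)

theorem map_rpt (h : X ⟶ Y) (q : 𝟙_ (Over (Spec (CommRingCat.of k))) ⟶ X) : h.left (rpt q) = rpt (q ≫ h) := rfl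

variable [IsAlgClosed k]

theorem exists_rpt [LocallyOfFiniteType Y.hom] {w : Y.left} (hw : w ∈ closedPoints Y.left) :
    ∃ q, rpt q = w := by
  refine ⟨Over.homMk (pointOfClosedPoint Y.hom w hw) ?_, pointOfClosedPoint_apply _ _ _ _⟩
  exact pointOfClosedPoint_comp _ _ _

theorem rpt_mem_closedPoints [LocallyOfFiniteType Y.hom] (q : 𝟙_ (Over (Spec (CommRingCat.of k))) ⟶ Y) :
    rpt q ∈ closedPoints Y.left :=
  ((pointEquivClosedPoint (X := Y.left) (K := k) Y.hom) ⟨q.left, Over.w q⟩).2

theorem rpt_injective [LocallyOfFiniteType Y.hom] :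
    Function.Injective (rpt : (𝟙_ (Over (Spec (CommRingCat.of k))) ⟶ Y) → _) := fun a b h =>
  Over.OverMorphism.ext (ext_of_apply_closedPoint_eq (K := k) Y.hom (Over.w a) (Over.w b) h)

/-- The trivial extension. -/
def ptIso (k : Type u) [Field k] : 𝟙_ (Over (Spec (CommRingCat.of k))) ≅ ptL k k :=
  Over.isoMk (Iso.refl _) (by
    show 𝟙 _ ≫ Spec.map (CommRingCat.ofHom (algebraMap k k)) = 𝟙 _
    rw [Algebra.algebraMap_self, CommRingCat.ofHom_id, Spec.map_id, Category.comp_id])

theorem fst_lpt (a : ptL k k ⟶ Y) : (fst Y (ptL k k)).left (lpt a) = rpt ((ptIso k).hom ≫ a) := by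
  rw [lpt, ← Scheme.Hom.comp_apply, ← Over.comp_left, lift_fst]
  rfl

instance isIso_fst_ptL : IsIso (fst Y (ptL k k)).left := by
  haveI : IsIso (ptL k k).hom := by
    show IsIso (Spec.map (CommRingCat.ofHom (algebraMap k k)))
    rw [Algebra.algebraMap_self, CommRingCat.ofHom_id]
    infer_instance
  exact inferInstanceAs (IsIso (pullback.fst Y.hom (ptL k k).hom))

variable [GrpObj G] [LocallyOfFiniteType G.hom] [LocallyOfFiniteType X.hom] [QuasiCompact X.hom]
  [GeometricallyReduced X.hom] (f : X ⟶ G)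

/-- One word takes every rational value in the generated group. -/
theorem exists_word_eq_rat (hd : JointlyDense (word f))
    (hcomp : ∀ W : Set X.left, IsClopen W → W.Nonempty →
      ∃ q : 𝟙_ (Over (Spec (CommRingCat.of k))) ⟶ X, rpt q ∈ W ∧ q ≫ f = 1) :
    ∃ m : List Bool, ∀ z : 𝟙_ (Over (Spec (CommRingCat.of k))) ⟶ G,
      ∃ c : 𝟙_ (Over (Spec (CommRingCat.of k))) ⟶ src X m, c ≫ word f m = z := by
  obtain ⟨⟨m, hm⟩, -⟩ := exists_word_eq (L := k) f hd fun V hV hne => by
    let e := (fst X (ptL k k)).left.homeomorph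
    obtain ⟨q, hq, hq1⟩ := hcomp (e '' V) ⟨e.isClosedMap _ hV.1, e.isOpenMap _ hV.2⟩ (hne.image _)
    refine ⟨(ptIso k).inv ≫ q, ?_, by rw [Category.assoc, hq1, MonObj.comp_one]⟩
    obtain ⟨v, hv, hve⟩ := hq
    have h2 : e (lpt ((ptIso k).inv ≫ q)) = rpt q := by
      show (fst X (ptL k k)).left (lpt ((ptIso k).inv ≫ q)) = _
      rw [fst_lpt, Iso.hom_inv_id_assoc]
    rwa [e.injective (h2.trans hve.symm)]
  refine ⟨m, fun z => ?_⟩
  obtain ⟨c, hc⟩ := hm ((ptIso k).inv ≫ z)
  exact ⟨(ptIso k).hom ≫ c, by rw [Category.assoc, hc, Iso.hom_inv_id_assoc]⟩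

omit [QuasiCompact X.hom] in
/-- A closed set containing all rational word values is everything. -/
theorem eq_univ_of_dense (hd : JointlyDense (word f)) {C : Set G.left} (hC : IsClosed C)
    (h : ∀ (l : List Bool) (c : 𝟙_ (Over (Spec (CommRingCat.of k))) ⟶ src X l), rpt (c ≫ word f l) ∈ C) :
    C = Set.univ := by
  let J := Scheme.IdealSheafData.vanishingIdeal (⟨C, hC⟩ : TopologicalSpace.Closeds G.left)
  let R : Over (Spec (CommRingCat.of k)) := Over.mk (J.subschemeι ≫ G.hom)
  let r : R ⟶ G := Over.homMk J.subschemeι rfl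
  haveI : IsClosedImmersion r.left := inferInstanceAs (IsClosedImmersion J.subschemeι)
  have hrange : Set.range r.left = C := by
    show Set.range J.subschemeι = C
    rw [Scheme.IdealSheafData.range_subschemeι]
    rfl
  haveI : IsIso r := hd R r inferInstance fun l => by
    haveI := geometricallyReduced_src X l
    haveI := lft_src X l
    haveI : JacobsonSpace (src X l).left := LocallyOfFiniteType.jacobsonSpace (src X l).hom
    haveI : IsReduced (src X l).left :=
      GeometricallyReduced.geometrically_isReduced (f := (src X l).hom) (K := k) (𝟙 _) (𝟙 _) (src X l).hom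
        (IsPullback.of_horiz_isIso ⟨by rw [Category.id_comp, Category.comp_id]⟩)
    have hsub : Set.range (word f l).left ⊆ C := by
      have : (word f l).left ⁻¹' C = Set.univ := by
        rw [← Set.univ_subset_iff, ← closure_closedPoints]
        refine closure_minimal (fun y hy => ?_) (hC.preimage (word f l).left.continuous)
        obtain ⟨c, rfl⟩ := exists_rpt hy
        exact h l c
      rintro _ ⟨y, rfl⟩
      exact this.ge (Set.mem_univ y)
    obtain ⟨g, hg⟩ := RedSepLib.exists_lift_of_isReduced (word f l).left r.left (hrange ▸ hsub)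
    exact ⟨Over.homMk g (by rw [← Over.w r, reassoc_of% hg, Over.w]), Over.OverMorphism.ext hg⟩
  haveI : IsIso r.left := inferInstanceAs (IsIso ((Over.forget _).map r))
  rw [← hrange]
  exact r.left.surjective.range_eq

end Groth.Agent.SubGen
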