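import Groth.Agent.SubGen.CommGeom
import Groth.Agent.GenFree.Scheme
import Groth.Agent.GeomRedSpread.Constructible
import Groth.Agent.UOFlat.RedAscent
import Groth.Agent.ConsEngine.Range

/-!
# Tools for spreading out generated subgroups over an open of an integral base
-/

universe u

open CategoryTheory CategoryTheory.Limits MonoidalCategory CartesianMonoidalCategory MonObj GrpObj AlgebraicGeometry
open Topology

set_option backward.isDefEq.respectTransparency false

noncomputable section

namespace Groth.Agent.SubGen.Spread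

attribute [local instance] Functor.grpObjObj

section points

variable {S T T' : Scheme.{u}} (φ : T ⟶ S) (ψ : T' ⟶ T) (G : Over S) [GrpObj G]

/-- Points of a base change. -/
def pe : (Over.mk (ψ ≫ φ) ⟶ G) ≃* (Over.mk ψ ⟶ (Over.pullback φ).obj G) :=
  Locus.baseEquiv φ G (Over.mk ψ)

theorem pe_comp {H : Over S} [GrpObj H] (x : Over.mk (ψ ≫ φ) ⟶ H) (h : H ⟶ G) :
    pe φ ψ G (x ≫ h) = pe φ ψ H x ≫ (Over.pullback φ).map h :=
  (Over.mapPullbackAdj φ).homEquiv_naturality_right (X := Over.mk ψ) x h

theorem pe_left (x : Over.mk (ψ ≫ φ) ⟶ G) : (pe φ ψ G x).left ≫ pullback.fst G.hom φ = x.left := by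
  show ((Over.mapPullbackAdj φ).homEquiv (Over.mk ψ) G x).left ≫ _ = _
  rw [Adjunction.homEquiv_unit]
  simp
  exact Category.id_comp _

theorem pe_left_apply (x : Over.mk (ψ ≫ φ) ⟶ G) (t : T') :
    pullback.fst G.hom φ ((pe φ ψ G x).left t) = x.left t := by
  exact congrArg (fun q : T' ⟶ G.left => q t) (pe_left φ ψ G x)

omit [GrpObj G] in
/-- The hom equivalence, for an object without group law. -/
theorem range_map_values (Y : Over T) {X : Over S} (F : X ⟶ G) [GrpObj G] :
    Locus.baseEquiv φ G Y '' Set.range (fun t => t ≫ F) =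
      Set.range (fun t : Y ⟶ (Over.pullback φ).obj X => t ≫ (Over.pullback φ).map F) := by
  ext z
  constructor
  · rintro ⟨_, ⟨t, rfl⟩, rfl⟩
    exact ⟨(Over.mapPullbackAdj φ).homEquiv Y X t, ((Over.mapPullbackAdj φ).homEquiv_naturality_right t F).symm⟩
  · rintro ⟨t, rfl⟩
    obtain ⟨t, rfl⟩ := ((Over.mapPullbackAdj φ).homEquiv Y X).surjective t
    exact ⟨t ≫ F, ⟨t, rfl⟩, (Over.mapPullbackAdj φ).homEquiv_naturality_right t F⟩

end points

/-- A geometric point in the range of a morphism lifts. -/
theorem exists_lift {S : Scheme.{u}} {U Y : Over S} (f : U ⟶ Y) [LocallyOfFiniteType f.left]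
    {Ω : Type u} [Field Ω] [IsAlgClosed Ω] (q : Spec (CommRingCat.of Ω) ⟶ S) (x : Over.mk q ⟶ Y)
    (h : x.left (IsLocalRing.closedPoint Ω) ∈ Set.range f.left) : ∃ u : Over.mk q ⟶ U, u ≫ f = x := by
  let P := pullback f.left x.left
  obtain ⟨w, hw⟩ := h
  obtain ⟨p, -, -⟩ := Scheme.Pullback.exists_preimage_pullback (f := f.left) (g := x.left) w (IsLocalRing.closedPoint Ω) hw
  let r : P ⟶ Spec (CommRingCat.of Ω) := pullback.snd f.left x.left
  haveI : LocallyOfFiniteType r := MorphismProperty.pullback_snd _ _ ‹_›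
  haveI : JacobsonSpace P := LocallyOfFiniteType.jacobsonSpace r
  obtain ⟨v, -, hv⟩ := nonempty_inter_closedPoints (Z := (Set.univ : Set P)) ⟨p, trivial⟩ isClosed_univ.isLocallyClosed
  let σ := pointOfClosedPoint r v hv
  have hσ : σ ≫ pullback.snd f.left x.left = 𝟙 _ := pointOfClosedPoint_comp r v hv
  refine ⟨Over.homMk (σ ≫ pullback.fst f.left x.left) ?_, Over.OverMorphism.ext ?_⟩
  · show (σ ≫ pullback.fst f.left x.left) ≫ U.hom = _
    rw [← Over.w f, Category.assoc, pullback.condition_assoc, reassoc_of% hσ, Over.w x]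
  · show (σ ≫ pullback.fst f.left x.left) ≫ f.left = x.left
    rw [Category.assoc, pullback.condition, reassoc_of% hσ]

/-- A monomorphism stable under division is a subgroup, over any base. -/
theorem exists_grpObj_of_div {S : Scheme.{u}} {G K : Over S} [GrpObj G] (i : K ⟶ G) [Mono i]
    (he' : ∃ e : 𝟙_ (Over S) ⟶ K, e ≫ i = η[G])
    (hdiv : ∃ d : K ⊗ K ⟶ K, d ≫ i = (fst K K ≫ i)⁻¹ * (snd K K ≫ i)) :
    ∃ _ : GrpObj K, IsMonHom i := by
  obtain ⟨e, he⟩ := he'
  obtain ⟨d, hd⟩ := hdiv
  obtain ⟨n, hn⟩ : ∃ n : K ⟶ K, n ≫ i = i⁻¹ := ⟨lift (𝟙 K) (toUnit K ≫ e) ≫ d, by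
    rw [Category.assoc, hd, MonObj.comp_mul, GrpObj.comp_inv, lift_fst_assoc, lift_snd_assoc, Category.id_comp,
      Category.assoc, he, ← Hom.one_def, _root_.mul_one]⟩
  obtain ⟨m, hm⟩ : ∃ m : K ⊗ K ⟶ K, m ≫ i = (fst K K ≫ i) * (snd K K ≫ i) := ⟨lift (fst K K ≫ n) (snd K K) ≫ d, by
    rw [Category.assoc, hd, MonObj.comp_mul, GrpObj.comp_inv, lift_fst_assoc, lift_snd_assoc, Category.assoc, hn,
      GrpObj.comp_inv, _root_.inv_inv]⟩
  let hM : MonObj K :=
    { one := e
      mul := m
      one_mul := by
        rw [← cancel_mono i, Category.assoc, hm, MonObj.comp_mul, whiskerRight_fst_assoc,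
          whiskerRight_snd_assoc, he, show fst _ K ≫ η[G] = toUnit _ ≫ η[G] from
            congrArg (· ≫ η[G]) (toUnit_unique _ _), ← Hom.one_def, _root_.one_mul, leftUnitor_hom]
      mul_one := by
        rw [← cancel_mono i, Category.assoc, hm, MonObj.comp_mul, whiskerLeft_fst_assoc,
          whiskerLeft_snd_assoc, he, show snd K _ ≫ η[G] = toUnit _ ≫ η[G] from
            congrArg (· ≫ η[G]) (toUnit_unique _ _), ← Hom.one_def, _root_.mul_one, rightUnitor_hom]
      mul_assoc := by
        simp only [← cancel_mono i, Category.assoc, hm, MonObj.comp_mul, whiskerRight_fst_assoc,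
          whiskerRight_snd_assoc, whiskerLeft_fst_assoc, whiskerLeft_snd_assoc,
          associator_hom_fst_assoc, associator_hom_snd_fst_assoc, associator_hom_snd_snd_assoc,
          _root_.mul_assoc] }
  let hG : GrpObj K :=
    { hM with
      inv := n
      left_inv := by
        rw [← cancel_mono i, Category.assoc, show μ[K] = m from rfl, hm, MonObj.comp_mul,
          lift_fst_assoc, lift_snd_assoc, hn, Category.id_comp, inv_mul_cancel, Category.assoc,
          show η[K] = e from rfl, he, Hom.one_def]
      right_inv := by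
        rw [← cancel_mono i, Category.assoc, show μ[K] = m from rfl, hm, MonObj.comp_mul,
          lift_fst_assoc, lift_snd_assoc, hn, Category.id_comp, mul_inv_cancel, Category.assoc,
          show η[K] = e from rfl, he, Hom.one_def] }
  have hi : IsMonHom i :=
    { one_hom := he
      mul_hom := by
        rw [show μ[K] = m from rfl, hm, Hom.mul_def]
        congr 1 }
  exact ⟨hG, hi⟩

variable {S : Scheme.{u}} [IsIntegral S]

/-- A locally constructible set containing the generic point contains an open around it. -/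
theorem exists_open_of_constructible {E : Set S} (hE : IsLocallyConstructible E) (hη : genericPoint S ∈ E) :
    ∃ U : S.Opens, genericPoint S ∈ U ∧ ∀ s ∈ U, s ∈ E := by
  obtain ⟨W, -, hW, ⟨u, hu, -⟩, hWE⟩ := GrpField.exists_isOpen_inter_closure_subset hE isOpen_univ
    ⟨genericPoint S, trivial, hη⟩
  exact ⟨⟨W, hW⟩, (genericPoint_specializes u).mem_open hW hu, fun s hs =>
    hWE ⟨closure_mono (Set.singleton_subset_iff.2 hη) ((genericPoint_specializes s).mem_closure), hs⟩⟩

omit [IsIntegral S] in
theorem snd_of_le {P : MorphismProperty Scheme.{u}} [P.IsStableUnderBaseChange] [P.RespectsIso] {X : Scheme.{u}}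
    (f : X ⟶ S) {U V : S.Opens} (h : V ≤ U) (hU : P (pullback.snd f U.ι)) : P (pullback.snd f V.ι) := by
  have h1 : P (pullback.snd (pullback.snd f U.ι) (S.homOfLE h)) := MorphismProperty.pullback_snd _ _ hU
  rw [← pullbackLeftPullbackSndIso_hom_snd f U.ι (S.homOfLE h), P.cancel_left_of_respectsIso] at h1
  have key : ∀ q q' : (V : Scheme.{u}) ⟶ S, q = q' → P (pullback.snd f q) → P (pullback.snd f q') := by
    rintro q q' rfl; exact id
  exact key _ _ (Scheme.homOfLE_ι S h) h1

theorem exists_open_flat_fp {X : Scheme.{u}} (f : X ⟶ S) [LocallyOfFiniteType f] [QuasiCompact f] :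
    ∃ U : S.Opens, genericPoint S ∈ U ∧ Flat (pullback.snd f U.ι) ∧ LocallyOfFinitePresentation (pullback.snd f U.ι) := by
  obtain ⟨U, hU, hflat, hfp⟩ := GenFree.exists_dense_flat_fp f
  refine ⟨U, ?_, ?_, ?_⟩
  · haveI : Nonempty S := inferInstance
    obtain ⟨u, hu⟩ := hU.nonempty
    exact (genericPoint_specializes u).mem_open U.2 hu
  · rw [← (isPullback_morphismRestrict f U).flip.isoPullback_inv_snd]
    exact (MorphismProperty.cancel_left_of_respectsIso (@Flat : MorphismProperty Scheme.{u}) _ _).2 hflat
  · rw [← (isPullback_morphismRestrict f U).flip.isoPullback_inv_snd]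
    exact (MorphismProperty.cancel_left_of_respectsIso (@LocallyOfFinitePresentation : MorphismProperty Scheme.{u}) _ _).2 hfp

theorem exists_open_geomRed {X : Scheme.{u}} (f : X ⟶ S) [LocallyOfFiniteType f] [QuasiCompact f]
    (h : GeometricallyReduced (f.fiberToSpecResidueField (genericPoint S))) :
    ∃ U : S.Opens, genericPoint S ∈ U ∧ GeometricallyReduced (pullback.snd f U.ι) := by
  obtain ⟨O, hO, hiff⟩ := GeomRedSpread.exists_open_geometricallyReduced_iff f (genericPoint S)
  refine ⟨O, hO, (GeomRedSpread.geometricallyReduced_iff_forall_fiber _).2 fun y => ?_⟩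
  rw [GeomRedSpread.fiber_baseChange_iff (IsPullback.of_hasPullback f O.ι) y]
  exact (hiff _ y.2 (genericPoint_specializes _)).2 h

omit [IsIntegral S] in
theorem isReduced_of_flat_gr {X Y : Scheme.{u}} (f : X ⟶ Y) [Flat f] [LocallyOfFinitePresentation f]
    [GeometricallyReduced f] [IsReduced Y] : IsReduced X := by
  have : ∀ x : X, _root_.IsReduced (X.presheaf.stalk x) := fun x =>
    UOFlat.isReduced_stalk f x fun K _ v p _ => by
      haveI : IsReduced (pullback f v) := GeometricallyReduced.geometrically_isReduced (f := f) v _ _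
        (IsPullback.of_hasPullback f v)
      infer_instance
  exact isReduced_of_isReduced_stalk X

omit [IsIntegral S] in
theorem isPullback_map {T : Scheme.{u}} (φ : T ⟶ S) {Z G : Over S} (h : Z ⟶ G) :
    IsPullback (pullback.fst Z.hom φ) ((Over.pullback φ).map h).left h.left (pullback.fst G.hom φ) := by
  refine IsPullback.of_bot (v₂₁ := pullback.snd G.hom φ) (v₂₂ := G.hom) (h₃₁ := φ) ?_ ?_
    (IsPullback.of_hasPullback G.hom φ)
  · rw [Over.w h]
    have e : ((Over.pullback φ).map h).left ≫ pullback.snd G.hom φ = pullback.snd Z.hom φ :=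
      Over.w ((Over.pullback φ).map h)
    exact e ▸ IsPullback.of_hasPullback Z.hom φ
  · exact (pullback.lift_fst _ _ _).symm

omit [IsIntegral S] in
theorem isClosedImmersion_map {T : Scheme.{u}} (φ : T ⟶ S) {Z G : Over S} (h : Z ⟶ G) [IsClosedImmersion h.left] :
    IsClosedImmersion ((Over.pullback φ).map h).left :=
  MorphismProperty.of_isPullback (isPullback_map φ h) ‹_›

omit [IsIntegral S] in
theorem range_map {T : Scheme.{u}} (φ : T ⟶ S) {Z G : Over S} (h : Z ⟶ G) :
    Set.range ((Over.pullback φ).map h).left = pullback.fst G.hom φ ⁻¹' Set.range h.left := by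
  ext w
  constructor
  · rintro ⟨v, rfl⟩
    refine ⟨pullback.fst Z.hom φ v, ?_⟩
    have e : pullback.fst Z.hom φ ≫ h.left = ((Over.pullback φ).map h).left ≫ pullback.fst G.hom φ :=
      (pullback.lift_fst _ _ _).symm
    exact congrArg (fun q : pullback Z.hom φ ⟶ G.left => q v) e
  · rintro ⟨z, hz⟩
    have sq := isPullback_map φ h
    obtain ⟨v, -, hv⟩ := Scheme.Pullback.exists_preimage_pullback (f := h.left) (g := pullback.fst G.hom φ) z w hz
    exact ⟨sq.isoPullback.inv v,
      (congrArg (fun q : pullback h.left (pullback.fst G.hom φ) ⟶ pullback G.hom φ => q v)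
        sq.isoPullback_inv_snd).trans hv⟩

/-- The generic fibre of a reduced scheme is reduced. -/
theorem isReduced_generic {Z : Scheme.{u}} [IsReduced Z] (f : Z ⟶ S) :
    IsReduced (pullback f (S.fromSpecResidueField (genericPoint S))) := by
  haveI : Flat (S.fromSpecResidueField (genericPoint S)) := by
    have hfield : IsField (S.presheaf.stalk (genericPoint S)) :=
      Semifield.toIsField (S.functionField : Type u)
    haveI : IsIso (S.residue (genericPoint S)) := by
      rw [ConcreteCategory.isIso_iff_bijective]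
      refine ⟨?_, Scheme.residue_surjective S _⟩
      letI := hfield.toField
      exact RingHom.injective (S.residue (genericPoint S)).hom
    haveI := GrpField.flat_fromSpecStalk (genericPoint S)
    show Flat (Spec.map (S.residue (genericPoint S)) ≫ S.fromSpecStalk (genericPoint S))
    infer_instance
  have : ∀ x : ↥(pullback f (S.fromSpecResidueField (genericPoint S))),
      _root_.IsReduced ((pullback f (S.fromSpecResidueField (genericPoint S))).presheaf.stalk x) := fun x => by
    let m := pullback.fst f (S.fromSpecResidueField (genericPoint S))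
    haveI : Flat m := MorphismProperty.pullback_fst _ _ ‹_›
    haveI : IsPreimmersion m := MorphismProperty.pullback_fst _ _ inferInstance
    have hsurj := SurjectiveOnStalks.surj_on_stalks (f := m) x
    algebraize [(m.stalkMap x).hom]
    have : Module.FaithfullyFlat (Z.presheaf.stalk (m x)) ((pullback f (S.fromSpecResidueField (genericPoint S))).presheaf.stalk x) :=
      @Module.FaithfullyFlat.of_flat_of_isLocalHom _ _ _ _ _ _ _
        (Flat.stalkMap m x) (m.toLRSHom.prop x)
    have hbij : Function.Bijective (m.stalkMap x).hom := ⟨FaithfulSMul.algebraMap_injective _ _, hsurj⟩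
    exact isReduced_of_injective (RingEquiv.ofBijective _ hbij).symm.toRingHom
      (RingEquiv.ofBijective _ hbij).symm.injective
  exact isReduced_of_isReduced_stalk _

omit [IsIntegral S] in
/-- Factoring through a monomorphism descends along a covering. -/
theorem exists_factor_of_cover {Z Y T T' : Scheme.{u}} (d : Z ⟶ Y) [IsClosedImmersion d] (x : T ⟶ Y)
    (c : T' ⟶ T) [Surjective c] [Flat c] [LocallyOfFinitePresentation c] (a : T' ⟶ Z) (ha : a ≫ d = c ≫ x) :
    ∃ b : T ⟶ Z, b ≫ d = x := by
  let P := pullback.snd d x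
  haveI : IsClosedImmersion P := MorphismProperty.pullback_snd _ _ ‹_›
  haveI : IsIso (pullback.fst c P) := by
    haveI : Mono (pullback.fst c P) := inferInstance
    haveI : IsSplitEpi (pullback.fst c P) := ⟨⟨pullback.lift (𝟙 T') (pullback.lift a c ha)
      (by rw [Category.id_comp, pullback.lift_snd]), pullback.lift_fst _ _ _⟩⟩
    exact isIso_of_mono_of_isSplitEpi _
  haveI : IsIso P := MorphismProperty.of_isPullback_of_descendsAlong
    (P := MorphismProperty.isomorphisms Scheme.{u})
    (Q := (@Surjective ⊓ @Flat ⊓ @LocallyOfFinitePresentation : MorphismProperty Scheme.{u}))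
    (IsPullback.of_hasPullback c P) ⟨⟨inferInstance, inferInstance⟩, inferInstance⟩ ‹_›
  exact ⟨inv P ≫ pullback.fst d x, by rw [Category.assoc, pullback.condition, IsIso.inv_hom_id_assoc]⟩

end Groth.Agent.SubGen.Spread
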