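import Groth.Agent.SubGen.SpreadBase
import Groth.Agent.FpqcDescent.Immersion
import Groth.Agent.GrpField.Range
import Groth.Prelude.Def_AlgGrp
import Groth.Agent.GeomFib.Consequences

/-!
# Spreading out a boundedly generated subgroup of the generic fibre

One word, its closed image over the base, and generic flatness.
-/

universe u

open CategoryTheory CategoryTheory.Limits MonoidalCategory CartesianMonoidalCategory MonObj GrpObj AlgebraicGeometry
open Topology

set_option backward.isDefEq.respectTransparency false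

noncomputable section

namespace Groth.Agent.SubGen.Spread

attribute [local instance] Functor.grpObjObj

/-- The padded word: it takes every product of at most `N` letters as a value. -/
def pad : ℕ → List Bool
  | 0 => []
  | N + 1 => true :: false :: pad N

theorem length_pad : ∀ N, (pad N).length = 2 * N
  | 0 => rfl
  | N + 1 => by simp [pad, length_pad N]; omega

section values

variable {S : Scheme.{u}} {X G : Over S} [GrpObj G] (F : X ⟶ G)

/-- the values of a morphism -/
abbrev val (T : Over S) : Set (T ⟶ G) := Set.range fun t : T ⟶ X => t ≫ F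

theorem lift_step {T B : Over S} (t : T ⟶ X) (b : T ⟶ B) (w : B ⟶ G) :
    lift t b ≫ ((fst X B ≫ F) * (snd X B ≫ w)) = (t ≫ F) * (b ≫ w) := by
  simp [MonObj.comp_mul]

theorem lift_step_inv {T B : Over S} (t : T ⟶ X) (b : T ⟶ B) (w : B ⟶ G) :
    lift t b ≫ ((fst X B ≫ F)⁻¹ * (snd X B ≫ w)) = (t ≫ F)⁻¹ * (b ≫ w) := by
  simp [MonObj.comp_mul, GrpObj.comp_inv]

open scoped Pointwise in
theorem bset_subset_pad (x₀ : 𝟙_ (Over S) ⟶ X) (hx₀ : x₀ ≫ F = 1) (T : Over S) : ∀ N,
    bset (val F T) N ⊆ val (Rel.word F (pad N)) T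
  | 0 => fun z hz => ⟨toUnit T, by rw [show z = 1 from hz, Hom.one_def]; rfl⟩
  | N + 1 => by
    rintro _ ⟨e, he, z, hz, rfl⟩
    obtain ⟨a, rfl⟩ := bset_subset_pad x₀ hx₀ T N hz
    let u₀ : T ⟶ X := toUnit T ≫ x₀
    have h0 : u₀ ≫ F = 1 := by rw [Category.assoc, hx₀, MonObj.comp_one]
    have key : ∀ t t' : T ⟶ X, lift t (lift t' a) ≫ Rel.word F (pad (N + 1)) =
        (t ≫ F) * ((t' ≫ F)⁻¹ * (a ≫ Rel.word F (pad N))) := fun t t' =>
      (lift_step F t (lift t' a) (Rel.word F (false :: pad N))).trans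
        (congrArg ((t ≫ F) * ·) (lift_step_inv F t' a (Rel.word F (pad N))))
    rcases he with (⟨t, rfl⟩ | he) | he
    · exact ⟨lift t (lift u₀ a), by show lift t (lift u₀ a) ≫ _ = _; rw [key, h0, inv_one, _root_.one_mul]⟩
    · obtain ⟨t, ht⟩ := Set.mem_inv.1 he
      exact ⟨lift u₀ (lift t a), by
        show lift u₀ (lift t a) ≫ _ = _
        rw [key, h0, _root_.one_mul, show t ≫ F = e⁻¹ from ht, _root_.inv_inv]⟩
    · exact ⟨lift u₀ (lift u₀ a), by
        show lift u₀ (lift u₀ a) ≫ _ = _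
        rw [key, h0, inv_one, _root_.one_mul, _root_.one_mul, show e = 1 from he]; exact (_root_.one_mul _).symm⟩

theorem pad_subset_bset (T : Over S) (N : ℕ) : val (Rel.word F (pad N)) T ⊆ bset (val F T) (2 * N) := by
  rintro _ ⟨a, rfl⟩
  exact (Rel.mem_bset_iff F (2 * N) _).2 ⟨pad N, (length_pad N).le, a, rfl⟩

theorem bset_subset_hom {H : Over S} [GrpObj H] (h : H ⟶ G) [IsMonHom h] {T : Over S} {A : Set (T ⟶ G)}
    (hA : A ⊆ val h T) : ∀ N, bset A N ⊆ val h T
  | 0 => fun z hz => ⟨1, by show (1 : T ⟶ H) ≫ h = z; rw [MonObj.one_comp, show z = 1 from hz]⟩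
  | N + 1 => by
    rintro _ ⟨e, he, z, hz, rfl⟩
    obtain ⟨b, rfl⟩ := bset_subset_hom h hA N hz
    obtain ⟨a, rfl⟩ : e ∈ val h T := by
      rcases he with (he | he) | he
      · exact hA he
      · obtain ⟨a, ha⟩ := hA (Set.mem_inv.1 he)
        exact ⟨a⁻¹, by show a⁻¹ ≫ h = e; rw [GrpObj.inv_comp, show a ≫ h = e⁻¹ from ha, _root_.inv_inv]⟩
      · exact ⟨1, by show (1 : T ⟶ H) ≫ h = e; rw [MonObj.one_comp, show e = 1 from he]⟩
    exact ⟨a * b, MonObj.mul_comp a b h⟩

end values

/-- A lift into the range of a closed immersion, from a reduced source. -/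
theorem exists_lift_reduced {S : Scheme.{u}} {A B C : Over S} [IsReduced A.left] (a : A ⟶ C) (b : B ⟶ C)
    [IsClosedImmersion b.left] (h : Set.range a.left ⊆ Set.range b.left) : ∃ l, l ≫ b = a := by
  obtain ⟨g, hg⟩ := RedSepLib.exists_lift_of_isReduced a.left b.left h
  exact ⟨Over.homMk g (by rw [← Over.w b, reassoc_of% hg, Over.w]), Over.OverMorphism.ext hg⟩

/-- A geometric point at a given point. -/
theorem exists_geom {S : Scheme.{u}} {Y : Over S} (y : Y.left) :
    ∃ (L : Type u) (_ : Field L) (_ : IsAlgClosed L) (q : Spec (CommRingCat.of L) ⟶ S) (t : Over.mk q ⟶ Y),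
      t.left (IsLocalRing.closedPoint L) = y := by
  refine ⟨AlgebraicClosure (Y.left.residueField y), inferInstance, inferInstance, Red.geomPt y ≫ Y.hom,
    Over.homMk (Red.geomPt y) rfl, ?_⟩
  show (Spec.map _ ≫ Y.left.fromSpecResidueField y) _ = y
  rw [Scheme.Hom.comp_apply, Scheme.fromSpecResidueField_apply]

section field

variable {k : Type u} [Field k] {G A B : Over (Spec (CommRingCat.of k))} [LocallyOfFiniteType G.hom]

theorem range_subset_of_points (L : Type u) [Field L] [Algebra k L] [IsAlgClosed L] (a : A ⟶ G) (b : B ⟶ G)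
    [LocallyOfFiniteType A.hom] [LocallyOfFiniteType B.hom] [QuasiCompact a.left] [QuasiCompact b.left]
    (h : ∀ z : ptL k L ⟶ G, (∃ x, x ≫ a = z) → ∃ y, y ≫ b = z) : Set.range a.left ⊆ Set.range b.left := by
  haveI : LocallyOfFiniteType (a.left ≫ G.hom) := by rw [Over.w]; infer_instance
  haveI : LocallyOfFiniteType (b.left ≫ G.hom) := by rw [Over.w]; infer_instance
  haveI : LocallyOfFiniteType a.left := locallyOfFiniteType_of_comp a.left G.hom
  haveI : LocallyOfFiniteType b.left := locallyOfFiniteType_of_comp b.left G.hom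
  haveI : IsLocallyNoetherian G.left := LocallyOfFiniteType.isLocallyNoetherian G.hom
  haveI : JacobsonSpace G.left := LocallyOfFiniteType.jacobsonSpace G.hom
  have hA : IsLocallyConstructible (Set.range a.left) := by
    rw [← Set.image_univ]; exact a.left.isLocallyConstructible_image .univ
  have hB : IsLocallyConstructible (Set.range b.left) := by
    rw [← Set.image_univ]; exact b.left.isLocallyConstructible_image .univ
  have huniv : (Set.range a.left ∩ (Set.range b.left)ᶜ)ᶜ = Set.univ := by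
    refine eq_univ_of_closedPoints (ConsTop.isLocallyConstructible_compl
      (hA.inter (ConsTop.isLocallyConstructible_compl hB))) fun w hw ⟨hwa, hwb⟩ => ?_
    obtain ⟨q, hq⟩ := GrpAct.exists_point (K := L) w hw
    obtain ⟨x, hx⟩ := exists_lift a (Spec.map (CommRingCat.ofHom (algebraMap k L))) q (by rw [hq]; exact hwa)
    obtain ⟨y, hy⟩ := h q ⟨x, hx⟩
    refine hwb ⟨y.left (IsLocalRing.closedPoint L), ?_⟩
    rw [← Scheme.Hom.comp_apply, ← Over.comp_left, hy]
    exact hq _
  intro w hw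
  by_contra hwb
  exact (huniv.ge (Set.mem_univ w)) ⟨hw, hwb⟩

end field

variable {S : Scheme.{u}} [IsIntegral S] {G X : Over S} [GrpObj G]
  [LocallyOfFinitePresentation G.hom] [QuasiCompact G.hom] [QuasiSeparated G.hom]
  [LocallyOfFinitePresentation X.hom] [QuasiCompact X.hom]

/-- **Spreading out.** A subgroup of the generic fibre whose geometric points are the bounded products of
the values of `F` spreads out to a closed subgroup over an open. -/
theorem exists_spread (F : X ⟶ G) (x₀ : 𝟙_ (Over S) ⟶ X) (hx₀ : x₀ ≫ F = 1)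
    (hXgr : GeometricallyReduced (X.hom.fiberToSpecResidueField (genericPoint S)))
    {K : Over (Spec (CommRingCat.of (S.residueField (genericPoint S) : Type u)))} [GrpObj K]
    (i : K ⟶ Red.bc (S.fromSpecResidueField (genericPoint S)) G) [IsMonHom i] [IsClosedImmersion i.left]
    [GeometricallyReduced K.hom] (N : ℕ)
    (hVK : ∀ t : Locus.gpt (genericPoint S) ⟶ X, ∃ y, y ≫ i = pe (S.fromSpecResidueField (genericPoint S))
      (Spec.map (CommRingCat.ofHom (algebraMap (S.residueField (genericPoint S))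
        (AlgebraicClosure (S.residueField (genericPoint S)))))) G (t ≫ F))
    (hKV : ∀ y : ptL (S.residueField (genericPoint S) : Type u) (AlgebraicClosure (S.residueField (genericPoint S))) ⟶ K,
      ∃ g ∈ bset (val F (Locus.gpt (genericPoint S))) N, pe (S.fromSpecResidueField (genericPoint S))
      (Spec.map (CommRingCat.ofHom (algebraMap (S.residueField (genericPoint S))
        (AlgebraicClosure (S.residueField (genericPoint S)))))) G g = y ≫ i) :
    ∃ U : S.Opens, genericPoint S ∈ U ∧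
      ∃ (D : Over (U : Scheme.{u})) (_ : GrpObj D) (d : D ⟶ Red.bc U.ι G), IsMonHom d ∧ IsClosedImmersion d.left ∧
        LocallyOfFinitePresentation D.hom ∧ QuasiCompact D.hom ∧ QuasiSeparated D.hom ∧ Flat D.hom ∧
        GeometricallyReduced D.hom ∧ IsReduced D.left ∧
        (∃ f' : Red.bc U.ι X ⟶ D, f' ≫ d = (Over.pullback U.ι).map F) ∧
        (∃ M : ℕ, ∀ (L : Type u) [Field L] [IsAlgClosed L] (q : Spec (CommRingCat.of L) ⟶ U) (z : Over.mk q ⟶ D),
          z ≫ d ∈ bset (val ((Over.pullback U.ι).map F) (Over.mk q)) M) ∧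
        (GeometricallyConnected K.hom → ∀ s : (U : Scheme.{u}), ConnectedSpace (D.hom.fiber s)) ∧
        ((∀ (T : Over S) (g : T ⟶ G) (x : T ⟶ X), g * (x ≫ F) * g⁻¹ ∈ val F T) → AlgGrp.IsNormalHom d) := by
  classical
  let η₀ := genericPoint S
  let φ := S.fromSpecResidueField η₀
  let Ω := AlgebraicClosure (S.residueField η₀)
  let ψ : Spec (CommRingCat.of Ω) ⟶ Spec (S.residueField η₀) :=
    Spec.map (CommRingCat.ofHom (algebraMap (S.residueField η₀) Ω))
  let N' := max N 1
  haveI : MorphismProperty.ContainsIdentities @LocallyOfFinitePresentation.{u} :=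
    ⟨fun X => inferInstanceAs (LocallyOfFinitePresentation (𝟙 X))⟩
  haveI : LocallyOfFinitePresentation (Rel.src X (pad N')).hom := Rel.prop_src @LocallyOfFinitePresentation ‹_› _
  haveI : QuasiCompact (Rel.src X (pad N')).hom := Rel.prop_src @QuasiCompact ‹_› _
  let P := Rel.src X (pad N')
  let W : P ⟶ G := Rel.word F (pad N')
  haveI := Locus.lfp_left G W
  haveI := Locus.qc_left G W
  let sW : Set G.left := Set.range W.left
  have hsW : IsLocallyConstructible sW := by
    show IsLocallyConstructible (Set.range W.left)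
    rw [← Set.image_univ]; exact W.left.isLocallyConstructible_image .univ
  have hbV : ∀ T, bset (val F T) N' ⊆ val W T := fun T => bset_subset_pad F x₀ hx₀ T N'
  have hWb : ∀ T, val W T ⊆ bset (val F T) (2 * N') := fun T => pad_subset_bset F T N'
  have hmem : ∀ {L : Type u} [Field L] {p : Spec (CommRingCat.of L) ⟶ S} (g : Over.mk p ⟶ G),
      g ∈ val W (Over.mk p) → g.left (IsLocalRing.closedPoint L) ∈ sW := by
    rintro L _ p _ ⟨t, rfl⟩
    exact ⟨t.left (IsLocalRing.closedPoint L), rfl⟩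
  -- the generic fibre
  let e := pe φ ψ G
  have hKsub : ∀ M, ∀ g ∈ bset (val F (Locus.gpt η₀)) M, ∃ y, y ≫ i = e g := fun M g hg => by
    have h1 : e g ∈ bset (e '' val F (Locus.gpt η₀)) M := by rw [← map_bset]; exact ⟨g, hg, rfl⟩
    exact bset_subset_hom i (A := e '' val F (Locus.gpt η₀)) (by rintro _ ⟨_, ⟨t, rfl⟩, rfl⟩; exact hVK t) M h1
  have hbound : ∀ M, bset (val F (Locus.gpt η₀)) M ⊆ bset (val F (Locus.gpt η₀)) N' := fun M g hg => by
    obtain ⟨y, hy⟩ := hKsub M g hg
    obtain ⟨g', hg', he'⟩ := hKV y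
    rw [hy] at he'
    exact e.injective he' ▸ bset_mono _ (le_max_left N 1) hg'
  haveI : LocallyOfFiniteType (Red.bc φ G).hom :=
    MorphismProperty.pullback_snd _ _ (inferInstance : LocallyOfFiniteType G.hom)
  haveI : LocallyOfFiniteType (Red.bc φ P).hom :=
    MorphismProperty.pullback_snd _ _ (inferInstance : LocallyOfFiniteType P.hom)
  haveI : LocallyOfFiniteType K.hom := by rw [← Over.w i]; infer_instance
  haveI : QuasiCompact (Red.bc φ P).hom := MorphismProperty.pullback_snd _ _ ‹QuasiCompact P.hom›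
  haveI : QuasiSeparated (Red.bc φ G).hom := MorphismProperty.pullback_snd _ _ ‹_›
  let Wη := (Over.pullback φ).map W
  haveI : QuasiCompact Wη.left := by
    haveI : QuasiCompact (Wη.left ≫ (Red.bc φ G).hom) := by rw [Over.w]; infer_instance
    exact QuasiCompact.of_comp Wη.left (Red.bc φ G).hom
  let p : (Red.bc φ G).left ⟶ G.left := pullback.fst G.hom φ
  have hfib : p ⁻¹' sW = Set.range i.left := by
    show pullback.fst G.hom φ ⁻¹' Set.range W.left = _
    rw [← range_map φ W]
    refine Set.Subset.antisymm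
      (range_subset_of_points (k := (S.residueField η₀ : Type u)) Ω Wη i ?_)
      (range_subset_of_points (k := (S.residueField η₀ : Type u)) Ω i Wη ?_)
    · rintro _ ⟨x, rfl⟩
      obtain ⟨x', rfl⟩ := ((Over.mapPullbackAdj φ).homEquiv (Over.mk ψ) P).surjective x
      obtain ⟨y, hy⟩ := hKsub _ (x' ≫ W) (hWb _ ⟨x', rfl⟩)
      exact ⟨y, hy.trans ((Over.mapPullbackAdj φ).homEquiv_naturality_right (X := Over.mk ψ) x' W)⟩
    · rintro _ ⟨y, rfl⟩
      obtain ⟨g, hg, he'⟩ := hKV y
      obtain ⟨x', hx'⟩ := hbV _ (bset_mono _ (le_max_left N 1) hg)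
      refine ⟨(Over.mapPullbackAdj φ).homEquiv (Over.mk ψ) P x', ?_⟩
      refine ((Over.mapPullbackAdj φ).homEquiv_naturality_right (X := Over.mk ψ) x' W).symm.trans ?_
      exact (congrArg e hx').trans he'
  -- the closed image
  let J := Scheme.IdealSheafData.vanishingIdeal (⟨closure sW, isClosed_closure⟩ : TopologicalSpace.Closeds G.left)
  let Z : Over S := Over.mk (J.subschemeι ≫ G.hom)
  let z : Z ⟶ G := Over.homMk J.subschemeι rfl
  haveI hzc : IsClosedImmersion z.left := inferInstanceAs (IsClosedImmersion J.subschemeι)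
  haveI hZred : IsReduced Z.left := GrpField.isReduced_vanishingIdeal (H := G) _
  have hrz : Set.range z.left = closure sW := by
    show Set.range J.subschemeι = _
    rw [Scheme.IdealSheafData.range_subschemeι]
    rfl
  haveI : LocallyOfFiniteType Z.hom := inferInstanceAs (LocallyOfFiniteType (J.subschemeι ≫ G.hom))
  haveI : QuasiCompact Z.hom := inferInstanceAs (QuasiCompact (J.subschemeι ≫ G.hom))
  haveI : QuasiSeparated Z.hom := inferInstanceAs (QuasiSeparated (J.subschemeι ≫ G.hom))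
  have hclη : ∀ y : G.left, G.hom y = η₀ → y ∈ closure sW → y ∈ sW := by
    intro y hy hyc
    obtain ⟨x, hx⟩ := FpqcDescent.exists_specializes_of_mem_closure W.left hyc
    have hxη : G.hom (W.left x) = η₀ :=
      ((genericPoint_specializes _).antisymm (((hx.map G.hom.continuous).trans (specializes_of_eq hy) : G.hom (W.left x) ⤳ η₀))).eq.symm
    have hlift : ∀ y : G.left, G.hom y = η₀ → ∃ w, p w = y := fun y hy => by
      obtain ⟨w, hw, -⟩ := Scheme.Pullback.exists_preimage_pullback (f := G.hom) (g := φ) y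
        (IsLocalRing.closedPoint (S.residueField η₀)) (by rw [hy, Scheme.fromSpecResidueField_apply])
      exact ⟨w, hw⟩
    obtain ⟨w, rfl⟩ := hlift y hy
    obtain ⟨w', hw'⟩ := hlift _ hxη
    haveI : IsPreimmersion p := MorphismProperty.pullback_fst _ _ inferInstance
    rw [← hw', p.isEmbedding.isInducing.specializes_iff] at hx
    have h1 : w' ∈ p ⁻¹' sW := ⟨x, hw'.symm⟩
    rw [hfib] at h1
    exact hfib.ge (hx.mem_closed i.left.isClosedEmbedding.isClosed_range h1)
  -- its generic fibre is `K`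
  let zη := (Over.pullback φ).map z
  haveI : IsClosedImmersion zη.left := isClosedImmersion_map φ z
  have hrzη : Set.range zη.left = Set.range i.left := by
    rw [← hfib, range_map φ z]
    ext w
    simp only [Set.mem_preimage]
    rw [show Set.range z.left = closure sW from hrz]
    refine ⟨fun h => hclη _ ?_ h, fun h => subset_closure h⟩
    show (pullback.fst G.hom φ ≫ G.hom) w = η₀
    rw [pullback.condition, Scheme.Hom.comp_apply, Scheme.fromSpecResidueField_apply]
  have hZK : GeometricallyReduced (Z.hom.fiberToSpecResidueField η₀) ∧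
      (GeometricallyConnected K.hom → GeometricallyConnected (Z.hom.fiberToSpecResidueField η₀)) := by
    haveI : IsReduced ((Over.pullback φ).obj Z).left := isReduced_generic Z.hom
    haveI : IsReduced K.left := GeometricallyReduced.geometrically_isReduced (f := K.hom)
      (K := (S.residueField η₀ : Type u)) (𝟙 _) (𝟙 _) K.hom
      (IsPullback.of_horiz_isIso ⟨by rw [Category.id_comp, Category.comp_id]⟩)
    obtain ⟨l1, hl1⟩ := exists_lift_reduced zη i hrzη.le
    obtain ⟨l2, hl2⟩ := exists_lift_reduced i zη hrzη.ge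
    haveI : Mono i := GrpField.SchImg.mono_of_isClosedImmersion i
    haveI : Mono zη := GrpField.SchImg.mono_of_isClosedImmersion zη
    haveI : IsIso l1 := ⟨l2, by rw [← cancel_mono zη, Category.assoc, hl2, hl1, Category.id_comp],
      by rw [← cancel_mono i, Category.assoc, hl1, hl2, Category.id_comp]⟩
    haveI : IsIso l1.left := inferInstanceAs (IsIso ((Over.forget _).map l1))
    show GeometricallyReduced (((Over.pullback φ).obj Z).hom) ∧
      (GeometricallyConnected K.hom → GeometricallyConnected (((Over.pullback φ).obj Z).hom))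
    rw [← Over.w l1]
    exact ⟨(MorphismProperty.cancel_left_of_respectsIso (@GeometricallyReduced : MorphismProperty Scheme.{u}) _ _).2 ‹_›,
      fun h => (MorphismProperty.cancel_left_of_respectsIso (@GeometricallyConnected : MorphismProperty Scheme.{u}) _ _).2 h⟩
  obtain ⟨hZgr, hZgc⟩ := hZK
  -- a first open
  obtain ⟨U1, hU1, hZfl, hZfp⟩ := exists_open_flat_fp Z.hom
  obtain ⟨U2, hU2, hZg⟩ := exists_open_geomRed Z.hom hZgr
  obtain ⟨U3, hU3, hXfl, hXfp⟩ := exists_open_flat_fp X.hom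
  obtain ⟨U4, hU4, hXg⟩ := exists_open_geomRed X.hom hXgr
  obtain ⟨U5, hU5, hGfl, -⟩ := exists_open_flat_fp G.hom
  -- products
  let dvW : P ⊗ P ⟶ G := (fst P P ≫ W)⁻¹ * (snd P P ≫ W)
  haveI : LocallyOfFinitePresentation (P ⊗ P).hom :=
    MorphismProperty.comp_mem _ _ _ (MorphismProperty.pullback_fst _ _ ‹LocallyOfFinitePresentation P.hom›) ‹_›
  haveI : QuasiCompact (P ⊗ P).hom :=
    MorphismProperty.comp_mem _ _ _ (MorphismProperty.pullback_fst _ _ ‹QuasiCompact P.hom›) ‹_›
  haveI := Locus.lfp_left G dvW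
  haveI := Locus.qc_left G dvW
  have hbadc : IsLocallyConstructible (dvW.left ⁻¹' sWᶜ) :=
    ConsEngine.isLocallyConstructible_preimage _ (ConsTop.isLocallyConstructible_compl hsW)
  obtain ⟨U6, hU6, hgood6⟩ := exists_open_of_constructible
    (ConsTop.isLocallyConstructible_compl ((P ⊗ P).hom.isLocallyConstructible_image hbadc)) (by
      rintro ⟨r, hr, hrη⟩
      obtain ⟨v, hv⟩ := Locus.exists_pt_mem hbadc hr
      have key : ∀ s, s = η₀ → ∀ v : Locus.gpt s ⟶ P ⊗ P, (v ≫ dvW).left (Locus.pt₀ s) ∈ sW := by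
        rintro _ rfl v
        refine hmem (v ≫ dvW) (hbV _ (hbound (2 * N' + 2 * N') ?_))
        have e1 : v ≫ dvW = ((v ≫ fst P P) ≫ W)⁻¹ * ((v ≫ snd P P) ≫ W) := by
          simp [dvW, MonObj.comp_mul, GrpObj.comp_inv]
        rw [e1]
        exact mul_mem_bset (inv_mem_bset (hWb _ ⟨_, rfl⟩)) (hWb _ ⟨_, rfl⟩)
      exact hv (by rw [← Scheme.Hom.comp_apply, ← Over.comp_left]; exact key _ hrη v))
  obtain ⟨U7, hU7, hgood7⟩ : ∃ U7 : S.Opens, η₀ ∈ U7 ∧
      (GeometricallyConnected K.hom → ∀ s ∈ U7, GeometricallyConnected (Z.hom.fiberToSpecResidueField s)) := by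
    obtain ⟨V, ⟨v, hv⟩, hVc⟩ := GeomFib.exists_open_of_generic Z.hom
    refine ⟨V, (genericPoint_specializes v).mem_open V.2 hv, fun h s hs => ?_⟩
    rw [GeomFib.geometricallyConnected_fiber_iff, (hVc s hs).2, ← GeomFib.geometricallyConnected_fiber_iff]
    exact hZgc h
  let U0 : S.Opens := U1 ⊓ U2 ⊓ U3 ⊓ U4 ⊓ U5 ⊓ U6 ⊓ U7
  have hU0 : η₀ ∈ U0 := ⟨⟨⟨⟨⟨⟨hU1, hU2⟩, hU3⟩, hU4⟩, hU5⟩, hU6⟩, hU7⟩
  -- the closure adds nothing
  haveI : Nonempty U0.toScheme := ⟨⟨η₀, hU0⟩⟩
  let q0 : pullback Z.hom U0.ι ⟶ G.left := pullback.fst Z.hom U0.ι ≫ z.left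
  let π0 : pullback Z.hom U0.ι ⟶ U0.toScheme := pullback.snd Z.hom U0.ι
  haveI : LocallyOfFinitePresentation π0 := snd_of_le (P := @LocallyOfFinitePresentation) Z.hom
    (show U0 ≤ U1 from fun s hs => hs.1.1.1.1.1.1) hZfp
  haveI : QuasiCompact π0 := MorphismProperty.pullback_snd _ _ ‹_›
  obtain ⟨V, hV, hgoodV⟩ := exists_open_of_constructible
    (ConsTop.isLocallyConstructible_compl (π0.isLocallyConstructible_image
      (ConsEngine.isLocallyConstructible_preimage q0 (ConsTop.isLocallyConstructible_compl hsW)))) (by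
      rintro ⟨x, hx, hxη⟩
      refine hx (hclη _ ?_ (hrz.le ⟨pullback.fst Z.hom U0.ι x, rfl⟩))
      show (pullback.fst Z.hom U0.ι ≫ z.left ≫ G.hom) x = η₀
      rw [Over.w z, pullback.condition, Scheme.Hom.comp_apply]
      show U0.ι (π0 x) = η₀
      rw [hxη, genericPoint_eq_of_isOpenImmersion U0.ι])
  let U : S.Opens := U0.ι ''ᵁ V
  have hUU0 : U ≤ U0 := by rintro _ ⟨v, -, rfl⟩; exact v.2
  have hηU : η₀ ∈ U := ⟨genericPoint U0.toScheme, hV, genericPoint_eq_of_isOpenImmersion U0.ι⟩
  have hsWU : ∀ y : G.left, G.hom y ∈ U → y ∈ closure sW → y ∈ sW := by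
    intro y hy hyc
    obtain ⟨v, hv, hvy⟩ := hy
    obtain ⟨zz, hzz⟩ := hrz.ge hyc
    obtain ⟨x, hx1, hx2⟩ := Scheme.Pullback.exists_preimage_pullback (f := Z.hom) (g := U0.ι) zz v (by
      show (z.left ≫ G.hom) zz = _
      rw [Scheme.Hom.comp_apply, hzz]; exact hvy.symm)
    by_contra hny
    refine hgoodV v hv ⟨x, ?_, hx2⟩
    show z.left (pullback.fst Z.hom U0.ι x) ∉ sW
    rw [hx1, hzz]; exact hny
  haveI : Nonempty U.toScheme := ⟨⟨η₀, hηU⟩⟩
  -- the subgroup
  let D : Over (U : Scheme.{u}) := Red.bc U.ι Z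
  let d : D ⟶ Red.bc U.ι G := (Over.pullback U.ι).map z
  haveI hdc : IsClosedImmersion d.left := isClosedImmersion_map U.ι z
  haveI hDfl : Flat D.hom := snd_of_le (P := @Flat) Z.hom
    (show U ≤ U1 from fun s hs => (hUU0 hs).1.1.1.1.1.1) hZfl
  haveI hDfp : LocallyOfFinitePresentation D.hom := snd_of_le (P := @LocallyOfFinitePresentation) Z.hom
    (show U ≤ U1 from fun s hs => (hUU0 hs).1.1.1.1.1.1) hZfp
  haveI hDgr : GeometricallyReduced D.hom := snd_of_le (P := @GeometricallyReduced) Z.hom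
    (show U ≤ U2 from fun s hs => (hUU0 hs).1.1.1.1.1.2) hZg
  haveI hDqc : QuasiCompact D.hom := MorphismProperty.pullback_snd _ _ ‹QuasiCompact Z.hom›
  haveI hDqs : QuasiSeparated D.hom := MorphismProperty.pullback_snd _ _ ‹QuasiSeparated Z.hom›
  haveI hDred : IsReduced D.left := by
    haveI : IsOpenImmersion (pullback.fst Z.hom U.ι) := MorphismProperty.pullback_fst _ _ inferInstance
    exact isReduced_of_isOpenImmersion (pullback.fst Z.hom U.ι)
  let q := pullback.fst G.hom U.ι
  have hqU : ∀ y : (Red.bc U.ι G).left, G.hom (q y) ∈ U := fun y => by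
    have e1 : G.hom (q y) = U.ι (pullback.snd G.hom U.ι y) :=
      congrArg (fun h : pullback G.hom U.ι ⟶ S => h y) pullback.condition
    rw [e1]
    exact (pullback.snd G.hom U.ι y).2
  have hrd : Set.range d.left = q ⁻¹' sW := by
    rw [range_map U.ι z]
    show q ⁻¹' Set.range z.left = _
    rw [hrz]
    ext y
    exact ⟨fun h => hsWU _ (hqU y) h, fun h => subset_closure h⟩
  -- factorisation of `F`
  let FU := (Over.pullback U.ι).map F
  haveI : Flat (Red.bc U.ι X).hom := snd_of_le (P := @Flat) X.hom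
    (show U ≤ U3 from fun s hs => (hUU0 hs).1.1.1.1.2) hXfl
  haveI : LocallyOfFinitePresentation (Red.bc U.ι X).hom := MorphismProperty.pullback_snd _ _ ‹_›
  haveI : GeometricallyReduced (Red.bc U.ι X).hom := snd_of_le (P := @GeometricallyReduced) X.hom
    (show U ≤ U4 from fun s hs => (hUU0 hs).1.1.1.2) hXg
  haveI : IsReduced (Red.bc U.ι X).left := isReduced_of_flat_gr (Red.bc U.ι X).hom
  obtain ⟨f', hf'⟩ := exists_lift_reduced FU d (by
    rw [hrd, range_map U.ι F]
    rintro y ⟨x, hx⟩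
    show q y ∈ sW
    rw [show q y = F.left x from hx.symm]
    obtain ⟨L, _, _, r, t, rfl⟩ := exists_geom x
    rw [← Scheme.Hom.comp_apply, ← Over.comp_left]
    exact hmem _ (hbV _ (bset_mono _ (le_max_right N 1) (mem_bset_one ⟨t, rfl⟩))))
  -- points of the subgroup
  have hpts : ∀ {L : Type u} [Field L] [IsAlgClosed L] (r : Spec (CommRingCat.of L) ⟶ U.toScheme) (x : Over.mk r ⟶ D),
      ∃ t : Over.mk (r ≫ U.ι) ⟶ P, (pe U.ι r G) (t ≫ W) = x ≫ d := by
    intro L _ _ r x
    obtain ⟨x', hx'⟩ := (pe U.ι r G).surjective (x ≫ d)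
    have h1 : (x ≫ d).left (IsLocalRing.closedPoint L) ∈ q ⁻¹' sW := by
      rw [← hrd]; exact ⟨x.left (IsLocalRing.closedPoint L), rfl⟩
    rw [← hx', Set.mem_preimage] at h1
    have h1' : x'.left (IsLocalRing.closedPoint L) ∈ sW := by
      rw [← pe_left_apply U.ι r G x' (IsLocalRing.closedPoint L)]; exact h1
    obtain ⟨t, ht⟩ := exists_lift W (r ≫ U.ι) x' h1'
    exact ⟨t, by rw [ht, hx']⟩
  -- group structure
  haveI : Mono d := Over.mono_of_mono_left d
  obtain ⟨hDgrp, hdhom⟩ := exists_grpObj_of_div d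
    (by
      haveI : IsReduced (𝟙_ (Over (U : Scheme.{u}))).left := inferInstanceAs (IsReduced U.toScheme)
      refine exists_lift_reduced η[Red.bc U.ι G] d ?_
      rw [hrd]
      rintro _ ⟨y, rfl⟩
      obtain ⟨L, _, _, r, t, rfl⟩ := exists_geom (Y := 𝟙_ (Over (U : Scheme.{u}))) y
      show q ((η[Red.bc U.ι G]).left (t.left _)) ∈ sW
      rw [← Scheme.Hom.comp_apply t.left, ← Over.comp_left, toUnit_unique t (toUnit _), ← Hom.one_def,
        ← map_one (pe U.ι r G), pe_left_apply]
      exact hmem _ (hbV _ (one_mem_bset _ _)))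
    (by
      haveI : IsReduced (D ⊗ D).left := by
        haveI : Flat (pullback.fst D.hom D.hom) := MorphismProperty.pullback_fst _ _ hDfl
        haveI : LocallyOfFinitePresentation (pullback.fst D.hom D.hom) := MorphismProperty.pullback_fst _ _ hDfp
        haveI : GeometricallyReduced (pullback.fst D.hom D.hom) := MorphismProperty.pullback_fst _ _ hDgr
        exact isReduced_of_flat_gr (pullback.fst D.hom D.hom)
      refine exists_lift_reduced ((fst D D ≫ d)⁻¹ * (snd D D ≫ d)) d ?_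
      rw [hrd]
      rintro _ ⟨y, rfl⟩
      obtain ⟨L, _, _, r, t, rfl⟩ := exists_geom (Y := D ⊗ D) y
      show q (((fst D D ≫ d)⁻¹ * (snd D D ≫ d)).left (t.left _)) ∈ sW
      rw [← Scheme.Hom.comp_apply t.left, ← Over.comp_left, MonObj.comp_mul, GrpObj.comp_inv,
        ← Category.assoc, ← Category.assoc]
      obtain ⟨a, ha⟩ := hpts r (t ≫ fst D D)
      obtain ⟨b, hb⟩ := hpts r (t ≫ snd D D)
      rw [← ha, ← hb, ← map_inv, ← map_mul, pe_left_apply]
      have e1 : (a ≫ W)⁻¹ * (b ≫ W) = lift a b ≫ dvW := by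
        simp [dvW, MonObj.comp_mul, GrpObj.comp_inv]
      rw [e1, Over.comp_left, Scheme.Hom.comp_apply]
      by_contra hns
      refine hgood6 _ ?_ ⟨_, hns, rfl⟩
      have e2 : (P ⊗ P).hom ((lift a b).left (IsLocalRing.closedPoint L)) = U.ι (r (IsLocalRing.closedPoint L)) :=
        congrArg (fun h : Spec (CommRingCat.of L) ⟶ S => h (IsLocalRing.closedPoint L)) (Over.w (lift a b))
      rw [e2]
      exact (hUU0 (r (IsLocalRing.closedPoint L)).2).1.2)
  letI := hDgrp
  haveI := hdhom
  refine ⟨U, hηU, D, hDgrp, d, hdhom, hdc, hDfp, hDqc, hDqs, hDfl, hDgr, hDred, ⟨f', hf'⟩, ⟨2 * N', ?_⟩, ?_, ?_⟩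
  · intro L _ _ r x
    obtain ⟨t, ht⟩ := hpts r x
    rw [← ht, show val FU (Over.mk r) = pe U.ι r G '' val F (Over.mk (r ≫ U.ι)) from
      (range_map_values U.ι G (Over.mk r) F).symm, ← map_bset]
    exact ⟨_, hWb _ ⟨t, rfl⟩, rfl⟩
  · intro hK s
    haveI := hgood7 hK (U.ι s) (hUU0 s.2).2
    exact GeometricallyConnected.geometrically_connectedSpace (f := Z.hom.fiberToSpecResidueField (U.ι s))
      (K := ((U : Scheme.{u}).residueField s : Type u)) (Spec.map (U.ι.residueFieldMap s)) _ _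
      (isPullback_fiberToSpecResidueField_of_isPullback (IsPullback.of_hasPullback Z.hom U.ι) s)
  -- normality
  intro hconj
  let WU := (Over.pullback U.ι).map W
  let PU := Red.bc U.ι P
  let JP := Scheme.IdealSheafData.vanishingIdeal (⟨Set.univ, isClosed_univ⟩ : TopologicalSpace.Closeds PU.left)
  let Pr : Over (U : Scheme.{u}) := Over.mk (JP.subschemeι ≫ PU.hom)
  let rι : Pr ⟶ PU := Over.homMk JP.subschemeι rfl
  haveI : IsReduced Pr.left := GrpField.isReduced_vanishingIdeal (H := PU) _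
  have hrι : Set.range rι.left = Set.univ := by
    show Set.range JP.subschemeι = _
    rw [Scheme.IdealSheafData.range_subschemeι]
    rfl
  have hrW : Set.range (rι ≫ WU).left = Set.range d.left := by
    rw [hrd, Over.comp_left]
    ext y
    rw [show q ⁻¹' sW = Set.range WU.left from (range_map U.ι W).symm]
    constructor
    · rintro ⟨x, rfl⟩; exact ⟨rι.left x, rfl⟩
    · rintro ⟨x, rfl⟩
      obtain ⟨x', rfl⟩ := hrι.ge (Set.mem_univ x)
      exact ⟨x', rfl⟩
  obtain ⟨c, hc⟩ := exists_lift_reduced (rι ≫ WU) d hrW.le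
  haveI : Surjective c.left := ⟨fun y => by
    obtain ⟨x, hx⟩ := hrW.ge ⟨y, rfl⟩
    refine ⟨x, d.left.isClosedEmbedding.injective ?_⟩
    rw [← hx, ← hc]
    rfl⟩
  haveI : QuasiCompact c.left := by
    haveI : QuasiCompact (c.left ≫ D.hom) := by
      rw [Over.w c]
      haveI : QuasiCompact PU.hom := MorphismProperty.pullback_snd _ _ ‹QuasiCompact P.hom›
      exact inferInstanceAs (QuasiCompact (JP.subschemeι ≫ PU.hom))
    exact QuasiCompact.of_comp c.left D.hom
  haveI : IsSchemeTheoreticallyDominant c.left := IsSchemeTheoreticallyDominant.of_isDominant c.left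
  let GU := Red.bc U.ι G
  haveI : Flat GU.hom := snd_of_le (P := @Flat) G.hom
    (show U ≤ U5 from fun s hs => (hUU0 hs).1.1.2) hGfl
  let g₂ : (GU ⊗ D).left ⟶ D.left := pullback.snd GU.hom D.hom
  haveI : Flat g₂ := MorphismProperty.pullback_snd _ _ ‹Flat GU.hom›
  let eE : pullback c.left g₂ ⟶ (GU ⊗ D).left := pullback.snd c.left g₂
  have hker : eE.ker = ⊥ :=
    (isSchemeTheoreticallyDominant_iff eE).1 (inferInstanceAs (IsSchemeTheoreticallyDominant (pullback.snd c.left g₂)))
  let T : Over (U : Scheme.{u}) := Over.mk (eE ≫ (GU ⊗ D).hom)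
  let ee : T ⟶ GU ⊗ D := Over.homMk eE rfl
  let eT := Locus.baseEquiv U.ι G T
  let tP : T ⟶ PU := Over.homMk (pullback.fst c.left g₂ ≫ rι.left) (by
    show (pullback.fst c.left g₂ ≫ rι.left) ≫ PU.hom = eE ≫ (GU ⊗ D).hom
    rw [Category.assoc, Over.w rι, ← Over.w c, pullback.condition_assoc]
    congr 1
    exact Over.w (snd GU D))
  have htP : tP ≫ WU = (ee ≫ snd GU D) ≫ d := by
    refine Over.OverMorphism.ext ?_
    show (pullback.fst c.left g₂ ≫ rι.left) ≫ WU.left = (eE ≫ g₂) ≫ d.left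
    rw [← pullback.condition, Category.assoc, Category.assoc]
    congr 1
    exact (congrArg CommaMorphism.left hc).symm
  obtain ⟨tp, htp⟩ := ((Over.mapPullbackAdj U.ι).homEquiv T P).surjective tP
  obtain ⟨gT, hgT⟩ := eT.surjective (ee ≫ fst GU D)
  have hn : eT (tp ≫ W) = (ee ≫ snd GU D) ≫ d := by
    rw [← htP, ← htp]
    exact (Over.mapPullbackAdj U.ι).homEquiv_naturality_right tp W
  have hprod : gT * (tp ≫ W) * gT⁻¹ ∈ bset (val F _) (2 * N') :=
    conjInv_bset (fun g x hx => by obtain ⟨x, rfl⟩ := hx; exact hconj _ g x) (2 * N') gT _ (hWb _ ⟨tp, rfl⟩)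
  obtain ⟨n', hn'⟩ : (ee ≫ fst GU D) * ((ee ≫ snd GU D) ≫ d) * (ee ≫ fst GU D)⁻¹ ∈ val d T := by
    refine bset_subset_hom d (A := eT '' val F _) ?_ (2 * N') ?_
    · show Locus.baseEquiv U.ι G T '' Set.range (fun t => t ≫ F) ⊆ _
      rw [range_map_values U.ι G T F]
      rintro _ ⟨t, rfl⟩
      exact ⟨t ≫ f', by show (t ≫ f') ≫ d = t ≫ FU; rw [Category.assoc, hf']⟩
    · rw [← map_bset]
      exact ⟨_, hprod, by rw [map_mul, map_mul, map_inv, hgT, hn]⟩
  let cj : GU ⊗ D ⟶ GU := fst GU D * (snd GU D ≫ d) * (fst GU D)⁻¹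
  have hcj : n' ≫ d = ee ≫ cj := by
    rw [show n' ≫ d = _ from hn']
    simp [cj, MonObj.comp_mul, GrpObj.comp_inv]
  have hle : d.left.ker ≤ cj.left.ker := by
    have h1 : d.left.ker ≤ (n' ≫ d).left.ker := by rw [Over.comp_left]; exact Scheme.Hom.le_ker_comp _ _
    rw [hcj, Over.comp_left, Scheme.Hom.ker_comp] at h1
    show d.left.ker ≤ cj.left.ker
    rwa [show ee.left.ker = ⊥ from hker, Scheme.IdealSheafData.map_bot] at h1
  let c2 : GU ⊗ D ⟶ D := Over.homMk (IsClosedImmersion.lift d.left cj.left hle)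
    (by rw [← Over.w d, IsClosedImmersion.lift_fac_assoc, Over.w])
  have hc2 : c2 ≫ d = cj := Over.OverMorphism.ext (IsClosedImmersion.lift_fac _ _ _)
  intro T' g n
  refine ⟨lift g n ≫ c2, ?_⟩
  rw [Category.assoc, hc2]
  have e1 : lift g n ≫ fst GU D = g := lift_fst g n
  have e2 : lift g n ≫ snd GU D ≫ d = n ≫ d := lift_snd_assoc g n d
  show _ = lift g n ≫ (fst GU D * (snd GU D ≫ d) * (fst GU D)⁻¹)
  rw [MonObj.comp_mul, MonObj.comp_mul, GrpObj.comp_inv, e1, e2]

/-- The fibre of a subgroup whose geometric points are products of values is the smallest subgroup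
receiving the values. -/
theorem exists_factor_fibre {T : Scheme.{u}} {D X G : Over T} [GrpObj G] [LocallyOfFiniteType G.hom]
    (d : D ⟶ G) [IsClosedImmersion d.left] [GeometricallyReduced D.hom] (F : X ⟶ G) (M : ℕ) (s : T)
    (hpts : ∀ z : Over.mk (Red.geomPt s) ⟶ D, z ≫ d ∈ bset (val F (Over.mk (Red.geomPt s))) M)
    {Γ' : Over (Spec (T.residueField s))} [GrpObj Γ'] (i' : Γ' ⟶ Red.bc (T.fromSpecResidueField s) G) [IsMonHom i']
    [IsClosedImmersion i'.left] (c' : Red.bc (T.fromSpecResidueField s) X ⟶ Γ')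
    (hc' : c' ≫ i' = (Over.pullback (T.fromSpecResidueField s)).map F) :
    ∃ j : Red.bc (T.fromSpecResidueField s) D ⟶ Γ', j ≫ i' = (Over.pullback (T.fromSpecResidueField s)).map d := by
  let φ := T.fromSpecResidueField s
  let Ω := AlgebraicClosure (T.residueField s)
  let ψ : Spec (CommRingCat.of Ω) ⟶ Spec (T.residueField s) :=
    Spec.map (CommRingCat.ofHom (algebraMap (T.residueField s) Ω))
  let ds := (Over.pullback φ).map d
  haveI : IsClosedImmersion ds.left := isClosedImmersion_map φ d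
  haveI : LocallyOfFiniteType (Red.bc φ G).hom := MorphismProperty.pullback_snd _ _ ‹_›
  haveI : LocallyOfFiniteType (Red.bc φ D).hom := by rw [← Over.w ds]; infer_instance
  haveI : LocallyOfFiniteType Γ'.hom := by rw [← Over.w i']; infer_instance
  haveI : GeometricallyReduced (Red.bc φ D).hom := MorphismProperty.pullback_snd _ _ ‹GeometricallyReduced D.hom›
  haveI : IsReduced (Red.bc φ D).left := GeometricallyReduced.geometrically_isReduced (f := (Red.bc φ D).hom)
    (K := (T.residueField s : Type u)) (𝟙 _) (𝟙 _) (Red.bc φ D).hom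
    (IsPullback.of_horiz_isIso ⟨by rw [Category.id_comp, Category.comp_id]⟩)
  refine exists_lift_reduced ds i' (range_subset_of_points (k := (T.residueField s : Type u)) Ω ds i' ?_)
  rintro _ ⟨z', rfl⟩
  obtain ⟨z, rfl⟩ := ((Over.mapPullbackAdj φ).homEquiv (Over.mk ψ) D).surjective z'
  have h1 : pe φ ψ G (z ≫ d) ∈ bset (pe φ ψ G '' val F (Over.mk (Red.geomPt s))) M := by
    rw [← map_bset]; exact ⟨_, hpts z, rfl⟩
  obtain ⟨y, hy⟩ := bset_subset_hom i' (A := pe φ ψ G '' val F (Over.mk (Red.geomPt s))) (by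
    rintro _ ⟨_, ⟨t, rfl⟩, rfl⟩
    refine ⟨(Over.mapPullbackAdj φ).homEquiv (Over.mk ψ) X t ≫ c', ?_⟩
    show ((Over.mapPullbackAdj φ).homEquiv (Over.mk ψ) X t ≫ c') ≫ i' = _
    rw [Category.assoc, hc']
    exact ((Over.mapPullbackAdj φ).homEquiv_naturality_right (X := Over.mk ψ) t F).symm) M h1
  exact ⟨y, hy.trans ((Over.mapPullbackAdj φ).homEquiv_naturality_right (X := Over.mk ψ) z d)⟩

end Groth.Agent.SubGen.Spread
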