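import Groth.Agent.ClosedRep.Preimage
import Groth.Agent.GrpField.SchImg
import Groth.Agent.GeomRedPull.Field
import Groth.Agent.GeomRedPull.Basic
import Groth.Agent.RedSepLib.Basic

/-!
# The closed subgroup generated by a morphism

No finiteness: the closed image of all words, with its universal density.
-/

universe u

open CategoryTheory CategoryTheory.Limits MonoidalCategory CartesianMonoidalCategory MonObj GrpObj AlgebraicGeometry

set_option backward.isDefEq.respectTransparency false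

noncomputable section

namespace Groth.Agent.SubGen

variable {k : Type u} [Field k]


/-- A family of maps into `K` is jointly dense among closed subschemes. -/
def JointlyDense {K : Over (Spec (CommRingCat.of k))} {ν : Type*} {W : ν → (Over (Spec (CommRingCat.of k)))} (w : ∀ n, W n ⟶ K) : Prop :=
  ∀ (Z : Over (Spec (CommRingCat.of k))) (i : Z ⟶ K), IsClosedImmersion i.left → (∀ n, ∃ a, a ≫ i = w n) → IsIso i

/-- Joint density is universal. -/
theorem JointlyDense.factor {K : Over (Spec (CommRingCat.of k))} {ν : Type*} {W : ν → (Over (Spec (CommRingCat.of k)))} {w : ∀ n, W n ⟶ K} (hw : JointlyDense w)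
    {T Y Z : Over (Spec (CommRingCat.of k))} (f : K ⊗ T ⟶ Y) (i : Z ⟶ Y) [IsClosedImmersion i.left]
    (h : ∀ n, ∃ b, (w n ▷ T) ≫ f = b ≫ i) : ∃ b, f = b ≫ i := by
  obtain ⟨V, j, hj, hV⟩ := ClosedRep.exists_closed_preimage ((β_ T K).hom ≫ f) i
    (ClosedRep.isLocFree_of_field k T.hom)
  have hiso : IsIso j := hw V j hj fun n => (hV _ (w n)).2 fun T'' t a => by
    obtain ⟨b, hb⟩ := h n
    refine ⟨lift t a ≫ b, ?_⟩
    rw [Category.assoc, ← hb, lift_whiskerRight_assoc, ← Category.assoc]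
    congr 1
    apply CartesianMonoidalCategory.hom_ext <;> simp
  obtain ⟨b, hb⟩ := (hV K (𝟙 K)).1 ⟨inv j, IsIso.inv_hom_id j⟩ (K ⊗ T) (fst K T) (snd K T)
  refine ⟨b, ?_⟩
  rw [← hb, ← Category.assoc]
  conv_lhs => rw [← Category.id_comp f]
  congr 1
  apply CartesianMonoidalCategory.hom_ext <;> simp

/-- Closed image of a family of maps. -/
theorem exists_image {G : Over (Spec (CommRingCat.of k))} {ν : Type*} {W : ν → (Over (Spec (CommRingCat.of k)))} (w : ∀ n, W n ⟶ G) :
    ∃ (K : Over (Spec (CommRingCat.of k))) (i : K ⟶ G) (w' : ∀ n, W n ⟶ K), IsClosedImmersion i.left ∧ (∀ n, w' n ≫ i = w n) ∧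
      JointlyDense w' ∧
      ∀ (Z : Over (Spec (CommRingCat.of k))) (z : Z ⟶ G), IsClosedImmersion z.left → (∀ n, ∃ a, a ≫ z = w n) → ∃ l, l ≫ z = i := by
  let J : G.left.IdealSheafData := ⨅ n, (w n).left.ker
  have hle : ∀ n, J.subschemeι.ker ≤ (w n).left.ker := fun n => by
    rw [Scheme.IdealSheafData.ker_subschemeι]; exact iInf_le _ n
  let K : Over (Spec (CommRingCat.of k)) := Over.mk (J.subschemeι ≫ G.hom)
  let i : K ⟶ G := Over.homMk J.subschemeι rfl
  haveI hi : IsClosedImmersion i.left := inferInstanceAs (IsClosedImmersion J.subschemeι)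
  let w' : ∀ n, W n ⟶ K := fun n =>
    Over.homMk (IsClosedImmersion.lift J.subschemeι (w n).left (hle n)) (by
      change _ ≫ J.subschemeι ≫ G.hom = _
      rw [IsClosedImmersion.lift_fac_assoc, Over.w])
  have hw' : ∀ n, w' n ≫ i = w n := fun n => Over.OverMorphism.ext (IsClosedImmersion.lift_fac _ _ _)
  have hmin : ∀ (Z : Over (Spec (CommRingCat.of k))) (z : Z ⟶ G), IsClosedImmersion z.left → (∀ n, ∃ a, a ≫ z = w n) →
      ∃ l, l ≫ z = i := by
    intro Z z hz ha
    have hk : z.left.ker ≤ i.left.ker := by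
      show z.left.ker ≤ J.subschemeι.ker
      rw [Scheme.IdealSheafData.ker_subschemeι]
      refine le_iInf fun n => ?_
      obtain ⟨a, ha⟩ := ha n
      rw [← ha, Over.comp_left]
      exact Scheme.Hom.le_ker_comp _ _
    refine ⟨Over.homMk (IsClosedImmersion.lift z.left i.left hk)
      (by rw [← Over.w z, IsClosedImmersion.lift_fac_assoc, Over.w]), ?_⟩
    exact Over.OverMorphism.ext (IsClosedImmersion.lift_fac _ _ _)
  refine ⟨K, i, w', hi, hw', fun Z z hz ha => ?_, hmin⟩
  haveI : IsClosedImmersion (z ≫ i).left := by rw [Over.comp_left]; infer_instance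
  obtain ⟨l, hl⟩ := hmin Z (z ≫ i) inferInstance fun n => by
    obtain ⟨a, ha⟩ := ha n
    exact ⟨a, by rw [reassoc_of% ha, hw']⟩
  haveI : Mono i := GrpField.SchImg.mono_of_isClosedImmersion i
  haveI : Mono z := GrpField.SchImg.mono_of_isClosedImmersion z
  haveI : IsSplitEpi z := ⟨⟨l, by rw [← cancel_mono i, Category.assoc, hl, Category.id_comp]⟩⟩
  exact isIso_of_mono_of_isSplitEpi z

variable {G : Over (Spec (CommRingCat.of k))} [GrpObj G] {X : Over (Spec (CommRingCat.of k))} (f : X ⟶ G)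

/-- the source of a word -/
def src (X : Over (Spec (CommRingCat.of k))) : List Bool → (Over (Spec (CommRingCat.of k)))
  | [] => 𝟙_ _
  | _ :: l => X ⊗ src X l

/-- a letter -/
def letter : Bool → (X ⟶ G)
  | true => f
  | false => f⁻¹

/-- a word in `f` and its inverse -/
def word : ∀ l : List Bool, src X l ⟶ G
  | [] => η[G]
  | b :: l => (fst X (src X l) ≫ letter f b) * (snd X (src X l) ≫ word l)

theorem comp_word_nil {T : Over (Spec (CommRingCat.of k))} (a : T ⟶ src X []) : a ≫ word f [] = 1 := by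
  rw [Hom.one_def]
  exact congrArg (· ≫ η[G]) (toUnit_unique a (toUnit T))

theorem comp_word_cons {T : Over (Spec (CommRingCat.of k))} (b : Bool) (l : List Bool) (a : T ⟶ src X (b :: l)) :
    a ≫ word f (b :: l) = ((a ≫ fst X (src X l)) ≫ letter f b) * ((a ≫ snd X (src X l)) ≫ word f l) := by
  rw [Category.assoc, Category.assoc, ← MonObj.comp_mul]
  rfl

theorem exists_mul : ∀ (l l' : List Bool) {T : Over (Spec (CommRingCat.of k))} (a : T ⟶ src X l) (b : T ⟶ src X l'),
    ∃ c : T ⟶ src X (l ++ l'), c ≫ word f (l ++ l') = (a ≫ word f l) * (b ≫ word f l')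
  | [], l', T, a, b => ⟨b, by rw [comp_word_nil, _root_.one_mul]; rfl⟩
  | x :: l, l', T, a, b => by
    obtain ⟨c, hc⟩ := exists_mul l l' (a ≫ snd X (src X l)) b
    refine ⟨lift (a ≫ fst X (src X l)) c, ?_⟩
    show lift (a ≫ fst X (src X l)) c ≫ word f (x :: (l ++ l')) = _
    rw [comp_word_cons, comp_word_cons, lift_fst, lift_snd, hc, _root_.mul_assoc]

theorem exists_singleton (b : Bool) {T : Over (Spec (CommRingCat.of k))} (a : T ⟶ X) :
    ∃ c : T ⟶ src X [b], c ≫ word f [b] = a ≫ letter f b := by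
  refine ⟨lift a (toUnit T), ?_⟩
  rw [comp_word_cons, lift_fst, lift_snd, comp_word_nil, _root_.mul_one]

theorem exists_inv : ∀ (l : List Bool) {T : Over (Spec (CommRingCat.of k))} (a : T ⟶ src X l),
    ∃ (l' : List Bool) (c : T ⟶ src X l'), c ≫ word f l' = (a ≫ word f l)⁻¹
  | [], T, a => ⟨[], toUnit T, by rw [comp_word_nil, comp_word_nil, inv_one]⟩
  | x :: l, T, a => by
    obtain ⟨l', c, hc⟩ := exists_inv l (a ≫ snd X (src X l))
    obtain ⟨d, hd⟩ := exists_singleton f (!x) (a ≫ fst X (src X l))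
    obtain ⟨e, he⟩ := exists_mul f l' [!x] c d
    refine ⟨_, e, ?_⟩
    rw [he, hc, hd, comp_word_cons, _root_.mul_inv_rev]
    congr 1
    cases x <;> simp [letter, GrpObj.comp_inv]

theorem exists_div (l l' : List Bool) {T : Over (Spec (CommRingCat.of k))} (a : T ⟶ src X l) (b : T ⟶ src X l') :
    ∃ (m : List Bool) (c : T ⟶ src X m), c ≫ word f m = (a ≫ word f l)⁻¹ * (b ≫ word f l') := by
  obtain ⟨l₁, c, hc⟩ := exists_inv f l a
  obtain ⟨e, he⟩ := exists_mul f l₁ l' c b
  exact ⟨_, e, by rw [he, hc]⟩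

/-- words land in every subgroup containing `f` -/
theorem exists_factor_word {Γ : Over (Spec (CommRingCat.of k))} [GrpObj Γ] (i : Γ ⟶ G) [IsMonHom i] (h : ∃ f', f' ≫ i = f) :
    ∀ l, ∃ a, a ≫ i = word f l
  | [] => ⟨η[Γ], IsMonHom.one_hom i⟩
  | b :: l => by
    obtain ⟨a, ha⟩ := exists_factor_word i h l
    obtain ⟨f', hf'⟩ := h
    refine ⟨(fst X (src X l) ≫ letter f' b) * (snd X (src X l) ≫ a), ?_⟩
    rw [MonObj.mul_comp, Category.assoc, Category.assoc, ha]
    show _ = (fst X (src X l) ≫ letter f b) * (snd X (src X l) ≫ word f l)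
    congr 2
    cases b <;> simp [letter, GrpObj.inv_comp, hf']

/-- The closed subgroup generated by `f`. -/
theorem exists_generated :
    ∃ (K : Over (Spec (CommRingCat.of k))) (_ : GrpObj K) (i : K ⟶ G) (w : ∀ l, src X l ⟶ K),
      IsMonHom i ∧ IsClosedImmersion i.left ∧ (∀ l, w l ≫ i = word f l) ∧ JointlyDense w ∧
      (∃ f', f' ≫ i = f) ∧
      ∀ (Γ : Over (Spec (CommRingCat.of k))) (_ : GrpObj Γ) (j : Γ ⟶ G), IsMonHom j → IsClosedImmersion j.left →
        (∃ f', f' ≫ j = f) → ∃ l, l ≫ j = i := by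
  obtain ⟨K, i, w, hi, hw, hd, hmin⟩ := exists_image (word f)
  have hA : ∀ l, ∃ b, (K ◁ w l) ≫ ((fst K K ≫ i)⁻¹ * (snd K K ≫ i)) = b ≫ i := fun l => by
    refine hd.factor (T := src X l) ((K ◁ w l) ≫ ((fst K K ≫ i)⁻¹ * (snd K K ≫ i))) i fun l' => ?_
    obtain ⟨m, c, hc⟩ := exists_div f l' l (fst (src X l') (src X l)) (snd (src X l') (src X l))
    refine ⟨c ≫ w m, ?_⟩
    rw [Category.assoc, hw, hc]
    simp [MonObj.comp_mul, GrpObj.comp_inv, reassoc_of% whiskerRight_fst, hw]
  obtain ⟨B, hB⟩ : ∃ b, (β_ K K).hom ≫ ((fst K K ≫ i)⁻¹ * (snd K K ≫ i)) = b ≫ i :=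
    hd.factor (T := K) ((β_ K K).hom ≫ ((fst K K ≫ i)⁻¹ * (snd K K ≫ i))) i fun l => by
      obtain ⟨b, hb⟩ := hA l
      refine ⟨(β_ (src X l) K).hom ≫ b, ?_⟩
      rw [Category.assoc, ← hb, ← BraidedCategory.braiding_naturality_left_assoc]
  have hdiv : ∀ (T : Over (Spec (CommRingCat.of k))) (k₁ k₂ : T ⟶ K), ∃ k₃ : T ⟶ K, k₃ ≫ i = (k₁ ≫ i)⁻¹ * (k₂ ≫ i) := fun T k₁ k₂ => by
    refine ⟨lift k₂ k₁ ≫ B, ?_⟩
    rw [Category.assoc, ← hB]
    simp [MonObj.comp_mul, GrpObj.comp_inv]
  haveI := hi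
  obtain ⟨hK, him⟩ := GrpField.SchImg.exists_grpObj_of_div i ⟨w [], hw []⟩ hdiv
  have hf : ∃ f', f' ≫ i = f := by
    obtain ⟨c, hc⟩ := exists_singleton f true (𝟙 X)
    exact ⟨c ≫ w [true], by rw [Category.assoc, hw, hc]; exact Category.id_comp f⟩
  exact ⟨K, hK, i, w, him, hi, hw, hd, hf,
    fun Γ _ j hjm hj hf => hmin Γ j hj (exists_factor_word f j hf)⟩

theorem geometricallyReduced_src (X : Over (Spec (CommRingCat.of k))) [GeometricallyReduced X.hom] :
    ∀ l, GeometricallyReduced (src X l).hom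
  | [] => by
    refine ⟨fun K _ y Z fst snd hZ => ?_⟩
    haveI : IsIso (src X []).hom := inferInstanceAs (IsIso (𝟙 (Spec (CommRingCat.of k))))
    haveI : IsIso snd := hZ.isIso_snd_of_isIso
    exact isReduced_of_isOpenImmersion snd
  | _ :: l => by
    haveI := geometricallyReduced_src X l
    exact GeomRedPull.geometricallyReduced_pullback X.hom (src X l).hom

/-- A scheme receiving a jointly dense family from geometrically reduced schemes is geometrically reduced. -/
theorem geometricallyReduced_of_dense {K : Over (Spec (CommRingCat.of k))} {ν : Type*} {W : ν → (Over (Spec (CommRingCat.of k)))} {w : ∀ n, W n ⟶ K}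
    (hw : JointlyDense w) [∀ n, GeometricallyReduced (W n).hom] : GeometricallyReduced K.hom := by
  refine ⟨fun L _ y Z fst' snd' hZ => ?_⟩
  let T : Over (Spec (CommRingCat.of k)) := Over.mk y
  let J := (K ⊗ T).left.nilradical
  let R : Over (Spec (CommRingCat.of k)) := Over.mk (J.subschemeι ≫ (K ⊗ T).hom)
  let r : R ⟶ K ⊗ T := Over.homMk J.subschemeι rfl
  haveI : IsClosedImmersion r.left := inferInstanceAs (IsClosedImmersion J.subschemeι)
  have hred : IsReduced J.subscheme := RedSepLib.isReduced_subscheme_nilradical _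
  obtain ⟨b, hb⟩ := hw.factor (T := T) (𝟙 (K ⊗ T)) r fun n => by
    haveI : IsReduced T.left := inferInstanceAs (IsReduced (Spec (CommRingCat.of L)))
    haveI : IsReduced (W n ⊗ T).left := GeomRedPull.isReduced_pullback (W n).hom T.hom
    obtain ⟨g, hg⟩ := RedSepLib.exists_lift_of_isReduced (w n ▷ T).left r.left (by
      show _ ⊆ Set.range J.subschemeι
      rw [Scheme.IdealSheafData.range_subschemeι, Scheme.support_nilradical]
      exact Set.subset_univ _)
    refine ⟨Over.homMk g (by rw [← Over.w r, reassoc_of% hg, Over.w]), ?_⟩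
    rw [Category.comp_id]
    exact Over.OverMorphism.ext hg.symm
  haveI : Mono r := GrpField.SchImg.mono_of_isClosedImmersion r
  haveI : IsSplitEpi r := ⟨⟨b, hb.symm⟩⟩
  haveI : IsIso r := isIso_of_mono_of_isSplitEpi r
  haveI : IsIso r.left := inferInstanceAs (IsIso ((Over.forget _).map r))
  haveI : IsReduced (K ⊗ T).left := @isReduced_of_isOpenImmersion _ _ (inv r.left) inferInstance hred
  exact isReduced_of_isOpenImmersion (X := Z) (Y := (K ⊗ T).left) hZ.isoPullback.hom

end Groth.Agent.SubGen
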