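import Mathlib

/-!
# Finiteness of mixed commutators (Baer)

If two normal subgroups centralise one another up to finitely many cosets, their commutator
subgroup is finite.
-/

universe u

namespace Groth.Agent.SubGen

open Subgroup
open scoped commutatorElement

variable {Q : Type u} [Group Q]

/-- `A₀` has finitely many cosets in `A`. -/
def Cof (A A₀ : Subgroup Q) : Prop := ∃ R : Finset Q, ∀ x ∈ A, ∃ r ∈ R, r ∈ A ∧ r⁻¹ * x ∈ A₀

theorem Cof.mono {A A₀ B₀ : Subgroup Q} (h : Cof A A₀) (hle : A₀ ≤ B₀) : Cof A B₀ :=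
  let ⟨R, hR⟩ := h
  ⟨R, fun x hx => let ⟨r, h1, h2, h3⟩ := hR x hx; ⟨r, h1, h2, hle h3⟩⟩

theorem Cof.restrict {A A₀ K : Subgroup Q} (h : Cof A A₀) (hK : K ≤ A) : Cof K (K ⊓ A₀) := by
  classical
  obtain ⟨R, hR⟩ := h
  let g : Q → Q := fun r => if hr : ∃ x ∈ K, r⁻¹ * x ∈ A₀ then hr.choose else 1
  refine ⟨R.image g, fun x hx => ?_⟩
  obtain ⟨r, hr, -, hrx⟩ := hR x (hK hx)
  have hr' : ∃ x ∈ K, r⁻¹ * x ∈ A₀ := ⟨x, hx, hrx⟩
  have hg : g r = hr'.choose := dif_pos hr'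
  obtain ⟨h1, h2⟩ := hr'.choose_spec
  rw [← hg] at h1 h2
  refine ⟨g r, Finset.mem_image_of_mem g hr, h1, ?_, ?_⟩
  · exact K.mul_mem (K.inv_mem h1) hx
  · rw [show (g r)⁻¹ * x = (r⁻¹ * g r)⁻¹ * (r⁻¹ * x) by group]
    exact A₀.mul_mem (A₀.inv_mem h2) hrx

theorem Cof.trans {A B C : Subgroup Q} (h : Cof A B) (h' : Cof B C) (hBA : B ≤ A) : Cof A C := by
  classical
  obtain ⟨R, hR⟩ := h
  obtain ⟨S, hS⟩ := h'
  refine ⟨(R ×ˢ S).image fun p => p.1 * p.2, fun x hx => ?_⟩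
  obtain ⟨r, hr, hrA, hrx⟩ := hR x hx
  obtain ⟨s, hs, hsB, hsx⟩ := hS _ hrx
  refine ⟨r * s, Finset.mem_image.2 ⟨(r, s), Finset.mem_product.2 ⟨hr, hs⟩, rfl⟩, A.mul_mem hrA (hBA hsB), ?_⟩
  rwa [mul_inv_rev, mul_assoc]

/-- A subgroup of finite colength contains a positive power of each element. -/
theorem Cof.exists_pow_mem {A A₀ : Subgroup Q} (h : Cof A A₀) {x : Q} (hx : x ∈ A) :
    ∃ n : ℕ, 0 < n ∧ x ^ n ∈ A₀ := by
  obtain ⟨R, hR⟩ := h
  have hall : ∀ n : ℕ, ∃ r : R, (r : Q)⁻¹ * x ^ n ∈ A₀ := fun n =>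
    let ⟨r, hr, _, h⟩ := hR (x ^ n) (A.pow_mem hx n)
    ⟨⟨r, hr⟩, h⟩
  choose g hg using hall
  obtain ⟨i, j, hne, hij⟩ := Finite.exists_ne_map_eq_of_infinite g
  wlog hlt : i < j generalizing i j
  · exact this j i hne.symm hij.symm (by omega)
  refine ⟨j - i, by omega, ?_⟩
  have h := A₀.mul_mem (A₀.inv_mem (hg i)) (hg j)
  rw [hij] at h
  rw [show x ^ (j - i) = ((g j : Q)⁻¹ * x ^ i)⁻¹ * ((g j : Q)⁻¹ * x ^ j) by
    rw [mul_inv_rev, inv_inv, mul_assoc, mul_inv_cancel_left, pow_sub _ (Nat.le_of_lt hlt)]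
    exact ((Commute.pow_pow_self x j i).inv_right).eq]
  exact h

theorem commutator_mul_left_of_commute {x c y : Q} (h : c * y = y * c) : ⁅x * c, y⁆ = ⁅x, y⁆ := by
  rw [commutatorElement_def, commutatorElement_def,
    show x * c * y * (x * c)⁻¹ = x * (c * y * c⁻¹) * x⁻¹ by group,
    show c * y * c⁻¹ = y by rw [h, mul_inv_cancel_right]]

theorem commutator_mul_right_of_commute {x c y : Q} (h : c * x = x * c) : ⁅x, y * c⁆ = ⁅x, y⁆ := by
  rw [← commutatorElement_inv, commutator_mul_left_of_commute h, commutatorElement_inv]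

/-- Commutators of two subgroups centralising one another up to finitely many cosets form a finite set. -/
theorem finite_commutators {A B A₀ B₀ : Subgroup Q} (hA : Cof A A₀) (hB : Cof B B₀)
    (hA₀ : ∀ c ∈ A₀, ∀ y ∈ B, c * y = y * c) (hB₀ : ∀ c ∈ B₀, ∀ x ∈ A, c * x = x * c) :
    {g | ∃ x ∈ A, ∃ y ∈ B, ⁅x, y⁆ = g}.Finite := by
  obtain ⟨R, hR⟩ := hA
  obtain ⟨S, hS⟩ := hB
  refine (Set.Finite.image (fun p : Q × Q => ⁅p.1, p.2⁆) ((R ×ˢ S).finite_toSet)).subset ?_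
  rintro g ⟨x, hx, y, hy, rfl⟩
  obtain ⟨r, hr, hrA, hrx⟩ := hR x hx
  obtain ⟨s, hs, hsB, hsy⟩ := hS y hy
  refine ⟨(r, s), Finset.mem_coe.2 (Finset.mem_product.2 ⟨hr, hs⟩), ?_⟩
  conv_rhs => rw [← mul_inv_cancel_left r x, ← mul_inv_cancel_left s y]
  rw [commutator_mul_right_of_commute, commutator_mul_left_of_commute (hA₀ _ hrx s hsB)]
  exact hB₀ _ hsy _ (A.mul_mem hrA ((A.mul_mem (A.inv_mem hrA) hx)))

theorem commutator_eq_closure' (A B : Subgroup Q) : ⁅A, B⁆ = closure {g | ∃ x ∈ A, ∃ y ∈ B, ⁅x, y⁆ = g} := rfl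

/-- A commutative subgroup generated by finitely many torsion elements is finite. -/
theorem finite_closure_torsion {S : Set Q} (hS : S.Finite) (hc : ∀ x ∈ S, ∀ y ∈ S, x * y = y * x)
    (ht : ∀ x ∈ S, ∃ n : ℕ, 0 < n ∧ x ^ n = 1) : Finite (closure S) := by
  letI : CommGroup (closure S) := Subgroup.closureCommGroupOfComm hc
  haveI : Group.FG (closure S) := (Group.fg_iff_subgroup_fg _).2 ⟨hS.toFinset, by rw [hS.coe_toFinset]⟩
  have key : ∀ (x : Q) (hx : x ∈ closure S), IsOfFinOrder (⟨x, hx⟩ : closure S) := fun x hx => by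
    induction hx using Subgroup.closure_induction with
    | mem x hx =>
      obtain ⟨n, hn, hxn⟩ := ht x hx
      exact isOfFinOrder_iff_pow_eq_one.2 ⟨n, hn, Subtype.ext (by simpa using hxn)⟩
    | one => exact IsOfFinOrder.one
    | mul x y _ _ h1 h2 => exact h1.mul h2
    | inv x _ h1 => exact h1.inv
  exact CommGroup.finite_of_fg_isMulTorsion (G := closure S) (fun x => key x.1 x.2)

/-- Step with abelian `K`. -/
theorem finite_commutator_abelian {A K A₀ Z : Subgroup Q} [K.Normal] (hK : ∀ x ∈ K, ∀ y ∈ K, x * y = y * x)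
    (hA : Cof A A₀) (hA₀ : ∀ c ∈ A₀, ∀ y ∈ K, c * y = y * c)
    (hKZ : Cof K Z) (hZ : ∀ c ∈ Z, ∀ x ∈ A, c * x = x * c) : Finite ↥⁅A, K⁆ := by
  rw [commutator_eq_closure']
  have hmem : ∀ g ∈ {g | ∃ x ∈ A, ∃ y ∈ K, ⁅x, y⁆ = g}, g ∈ K := by
    rintro g ⟨x, -, y, hy, rfl⟩
    exact K.mul_mem (Normal.conj_mem ‹K.Normal› y hy x) (K.inv_mem hy)
  refine finite_closure_torsion (finite_commutators hA hKZ hA₀ hZ) (fun g hg h hh => hK g (hmem g hg) h (hmem h hh)) ?_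
  rintro g ⟨x, hx, y, hy, rfl⟩
  obtain ⟨n, hn, hyn⟩ := hKZ.exists_pow_mem hy
  refine ⟨n, hn, ?_⟩
  have h1 : ∀ m : ℕ, ⁅x, y⁆ ^ m = ⁅x, y ^ m⁆ := fun m => by
    induction m with
    | zero => simp
    | succ m ih =>
      have hc : ⁅x, y⁆ * y ^ m = y ^ m * ⁅x, y⁆ :=
        hK _ (hmem _ ⟨x, hx, y, hy, rfl⟩) _ (K.pow_mem hy m)
      rw [pow_succ, ih, commutatorElement_def x (y ^ (m + 1)), pow_succ]
      rw [show x * (y ^ m * y) * x⁻¹ * (y ^ m * y)⁻¹ = ⁅x, y ^ m⁆ * (y ^ m * ⁅x, y⁆ * (y ^ m)⁻¹) by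
        simp only [commutatorElement_def]; group]
      rw [← hc, mul_inv_cancel_right]
  rw [h1 n, commutatorElement_def, ← hZ _ hyn x hx, mul_inv_cancel_right, mul_inv_cancel]

theorem finite_of_finite_map {N M : Subgroup Q} [N.Normal] [Finite N] (h : Finite (M.map (QuotientGroup.mk' N))) :
    Finite M := by
  have hfin : ((QuotientGroup.mk' N) ⁻¹' (M.map (QuotientGroup.mk' N) : Set (Q ⧸ N))).Finite := by
    refine Set.Finite.preimage' (Set.finite_coe_iff.1 h) fun b _ => ?_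
    obtain ⟨q, rfl⟩ := QuotientGroup.mk'_surjective N b
    refine ((Set.finite_coe_iff.1 (‹Finite N› : Finite (N : Set Q))).image (q * ·)).subset fun x hx => ?_
    exact ⟨q⁻¹ * x, (QuotientGroup.eq).1 (Set.mem_singleton_iff.1 hx).symm, mul_inv_cancel_left q x⟩
  exact Set.finite_coe_iff.2 (hfin.subset fun x hx => ⟨x, hx, rfl⟩)

theorem Cof.map {Q' : Type u} [Group Q'] {A A₀ : Subgroup Q} (h : Cof A A₀) (φ : Q →* Q') :
    Cof (A.map φ) (A₀.map φ) := by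
  classical
  obtain ⟨R, hR⟩ := h
  refine ⟨R.image φ, ?_⟩
  rintro _ ⟨x, hx, rfl⟩
  obtain ⟨r, hr, hrA, hrx⟩ := hR x hx
  exact ⟨φ r, Finset.mem_image_of_mem φ hr, ⟨r, hrA, rfl⟩, ⟨r⁻¹ * x, hrx, by simp⟩⟩

theorem map_commute {Q' : Type u} [Group Q'] {A₀ B : Subgroup Q} (φ : Q →* Q') (h : ∀ c ∈ A₀, ∀ y ∈ B, c * y = y * c) :
    ∀ c ∈ A₀.map φ, ∀ y ∈ B.map φ, c * y = y * c := by
  rintro _ ⟨c, hc, rfl⟩ _ ⟨y, hy, rfl⟩
  rw [← map_mul, h c hc y hy, map_mul]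

/-- Baer's theorem. -/
theorem finite_commutator_of_cof {A B A₀ B₀ : Subgroup Q} [A.Normal] [B.Normal] (hA₀A : A₀ ≤ A)
    (hA : Cof A A₀) (hB : Cof B B₀)
    (hA₀ : ∀ c ∈ A₀, ∀ y ∈ B, c * y = y * c) (hB₀ : ∀ c ∈ B₀, ∀ x ∈ A, c * x = x * c) :
    Finite ↥⁅A, B⁆ := by
  classical
  let K := A ⊓ B
  haveI : K.Normal := Subgroup.normal_inf_normal A B
  let Z := K ⊓ A₀ ⊓ B₀
  have hKZ : Cof K Z := by
    have h1 : Cof K (K ⊓ A₀) := hA.restrict inf_le_left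
    have h2 : Cof (K ⊓ A₀) ((K ⊓ A₀) ⊓ B₀) := hB.restrict (inf_le_left.trans inf_le_right)
    exact h1.trans h2 inf_le_left
  -- reduce to `K` abelian
  have hKK : Finite ↥⁅K, K⁆ := by
    haveI : Finite (commutatorSet K) := by
      refine Set.finite_coe_iff.2 (Set.Finite.of_finite_image (f := K.subtype) ?_ K.subtype_injective.injOn)
      refine (finite_commutators hKZ hKZ (fun c hc y hy => hA₀ c hc.1.2 y hy.2)
        (fun c hc y hy => hA₀ c hc.1.2 y hy.2)).subset ?_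
      rintro _ ⟨_, ⟨x, y, rfl⟩, rfl⟩
      exact ⟨x, x.2, y, y.2, rfl⟩
    rw [← Subgroup.map_subtype_commutator K]
    exact Finite.of_surjective _ (K.subtype.subgroupMap_surjective (_root_.commutator K))
  let N := ⁅K, K⁆
  haveI : N.Normal := Subgroup.commutator_normal K K
  haveI : Finite N := hKK
  apply finite_of_finite_map (N := N)
  rw [Subgroup.map_commutator]
  let π := QuotientGroup.mk' N
  haveI : (A.map π).Normal := ‹A.Normal›.map π (QuotientGroup.mk'_surjective N)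
  haveI : (B.map π).Normal := ‹B.Normal›.map π (QuotientGroup.mk'_surjective N)
  haveI : (K.map π).Normal := ‹K.Normal›.map π (QuotientGroup.mk'_surjective N)
  have hKab : ∀ x ∈ K.map π, ∀ y ∈ K.map π, x * y = y * x := by
    rintro _ ⟨x, hx, rfl⟩ _ ⟨y, hy, rfl⟩
    rw [← commutatorElement_eq_one_iff_mul_comm, ← map_commutatorElement]
    exact (QuotientGroup.eq_one_iff _).2 (Subgroup.commutator_mem_commutator hx hy)
  have hZA : ∀ c ∈ Z, ∀ x ∈ A, c * x = x * c := fun c hc x hx => hB₀ c hc.2 x hx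
  have hZB : ∀ c ∈ Z, ∀ y ∈ B, c * y = y * c := fun c hc y hy => hA₀ c hc.1.2 y hy
  haveI h1 : Finite ↥⁅A.map π, K.map π⁆ := finite_commutator_abelian hKab (hA.map π)
    (map_commute π fun c hc y hy => hA₀ c hc y hy.2) (hKZ.map π) (map_commute π hZA)
  haveI h2 : Finite ↥⁅B.map π, K.map π⁆ := finite_commutator_abelian hKab (hB.map π)
    (map_commute π fun c hc y hy => hB₀ c hc y hy.1) (hKZ.map π) (map_commute π hZB)
  let N' := ⁅A.map π, K.map π⁆ ⊔ ⁅B.map π, K.map π⁆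
  haveI : Finite N' := Set.finite_coe_iff.2 (by
    rw [Subgroup.normal_mul]
    exact (Set.finite_coe_iff.1 h1).mul (Set.finite_coe_iff.1 h2))
  apply finite_of_finite_map (N := N')
  rw [Subgroup.map_commutator]
  let ρ := QuotientGroup.mk' N'
  have hfin : {g | ∃ x ∈ (A.map π).map ρ, ∃ y ∈ (B.map π).map ρ, ⁅x, y⁆ = g}.Finite :=
    finite_commutators ((hA.map π).map ρ) ((hB.map π).map ρ)
      (map_commute ρ (map_commute π hA₀)) (map_commute ρ (map_commute π hB₀))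
  have hcent : ∀ g ∈ {g | ∃ x ∈ (A.map π).map ρ, ∃ y ∈ (B.map π).map ρ, ⁅x, y⁆ = g},
      (∀ z ∈ (A.map π).map ρ, g * z = z * g) ∧ (∀ z ∈ (B.map π).map ρ, g * z = z * g) := by
    rintro _ ⟨_, ⟨_, ⟨x, hx, rfl⟩, rfl⟩, _, ⟨_, ⟨y, hy, rfl⟩, rfl⟩, rfl⟩
    have hxy : π ⁅x, y⁆ ∈ K.map π :=
      ⟨_, Subgroup.commutator_le_inf A B (Subgroup.commutator_mem_commutator hx hy), rfl⟩
    rw [← map_commutatorElement, ← map_commutatorElement]
    constructor
    · rintro _ ⟨z, hz, rfl⟩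
      symm
      rw [← commutatorElement_eq_one_iff_mul_comm, ← map_commutatorElement]
      exact (QuotientGroup.eq_one_iff _).2 (Subgroup.mem_sup_left (Subgroup.commutator_mem_commutator hz hxy))
    · rintro _ ⟨z, hz, rfl⟩
      symm
      rw [← commutatorElement_eq_one_iff_mul_comm, ← map_commutatorElement]
      exact (QuotientGroup.eq_one_iff _).2 (Subgroup.mem_sup_right (Subgroup.commutator_mem_commutator hz hxy))
  show Finite ↥(closure {g | ∃ x ∈ (A.map π).map ρ, ∃ y ∈ (B.map π).map ρ, ⁅x, y⁆ = g})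
  refine finite_closure_torsion hfin (fun g hg h hh => ?_) ?_
  · obtain ⟨x, hx, y, hy, rfl⟩ := hh
    have hgx := (hcent g hg).1 x hx
    have hgy := (hcent g hg).2 y hy
    exact ((Commute.mul_right (Commute.mul_right (Commute.mul_right (show Commute g x from hgx) hgy)
      (Commute.inv_right hgx)) (Commute.inv_right hgy))).eq
  rintro g ⟨x, hx, y, hy, rfl⟩
  obtain ⟨n, hn, hyn⟩ := ((hB.map π).map ρ).exists_pow_mem hy
  refine ⟨n, hn, ?_⟩
  have hcy : ∀ m, ⁅x, y ^ m⁆ = ⁅x, y⁆ ^ m := fun m => by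
    induction m with
    | zero => simp
    | succ m ih =>
      have hg : Commute ⁅x, y⁆ (y ^ m) :=
        Commute.pow_right ((hcent _ ⟨x, hx, y, hy, rfl⟩).2 y hy) m
      rw [pow_succ (⁅x, y⁆), ← ih, commutatorElement_def x (y ^ (m + 1)), pow_succ,
        show x * (y ^ m * y) * x⁻¹ * (y ^ m * y)⁻¹ = ⁅x, y ^ m⁆ * (y ^ m * ⁅x, y⁆ * (y ^ m)⁻¹) by
          simp only [commutatorElement_def]; group]
      rw [← hg.eq, mul_inv_cancel_right]
  rw [← hcy, commutatorElement_eq_one_iff_mul_comm]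
  exact ((map_commute ρ (map_commute π hB₀)) _ hyn x hx).symm

end Groth.Agent.SubGen
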