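import Groth.Agent.SubGen.CommBound
import Groth.Agent.S6073
import Groth.Agent.Rigid.Smooth

/-!
# The derived and lower central series over an algebraically closed field stabilise boundedly
-/

universe u

open CategoryTheory CategoryTheory.Limits MonoidalCategory CartesianMonoidalCategory MonObj GrpObj AlgebraicGeometry
open scoped commutatorElement

set_option backward.isDefEq.respectTransparency false

noncomputable section

namespace Groth.Agent.SubGen

variable {k : Type u} [Field k] [IsAlgClosed k]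

/-- A reduced scheme maps into a closed subscheme as soon as its rational points do. -/
theorem exists_factor_rat {G D D' : Over (Spec (CommRingCat.of k))}
    [LocallyOfFiniteType D.hom] [IsReduced D.left] (i : D ⟶ G) (i' : D' ⟶ G) [IsClosedImmersion i'.left]
    (h : ∀ d : 𝟙_ (Over (Spec (CommRingCat.of k))) ⟶ D, ∃ d', d' ≫ i' = d ≫ i) :
    ∃ l : D ⟶ D', l ≫ i' = i := by
  haveI : JacobsonSpace D.left := LocallyOfFiniteType.jacobsonSpace D.hom
  have hpre : i.left ⁻¹' Set.range i'.left = Set.univ := by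
    rw [← Set.univ_subset_iff, ← closure_closedPoints]
    refine closure_minimal (fun w hw => ?_) (i'.left.isClosedEmbedding.isClosed_range.preimage i.left.continuous)
    obtain ⟨d, rfl⟩ := exists_rpt hw
    obtain ⟨d', hd'⟩ := h d
    exact ⟨rpt d', by rw [map_rpt, map_rpt, hd']⟩
  obtain ⟨g, hg⟩ := RedSepLib.exists_lift_of_isReduced i.left i'.left (by
    rintro _ ⟨u, rfl⟩
    exact hpre.ge (Set.mem_univ u))
  exact ⟨Over.homMk g (by rw [← Over.w i', reassoc_of% hg, Over.w]), Over.OverMorphism.ext hg⟩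

theorem isReduced_left (X : Over (Spec (CommRingCat.of k))) [GeometricallyReduced X.hom] : IsReduced X.left :=
  GeometricallyReduced.geometrically_isReduced (f := X.hom) (K := k) (𝟙 _) (𝟙 _) X.hom
    (IsPullback.of_horiz_isIso ⟨by rw [Category.id_comp, Category.comp_id]⟩)

variable {G : Over (Spec (CommRingCat.of k))} [GrpObj G] [LocallyOfFiniteType G.hom] [QuasiCompact G.hom]
  [GeometricallyReduced G.hom]

variable (G) in
/-- A reduced closed normal subgroup, through its points. -/
structure Sub (P : Subgroup (𝟙_ (Over (Spec (CommRingCat.of k))) ⟶ G)) where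
  K : Over (Spec (CommRingCat.of k))
  [grp : GrpObj K]
  i : K ⟶ G
  hom : IsMonHom i
  closed : IsClosedImmersion i.left
  geomRed : GeometricallyReduced K.hom
  normal : AlgGrp.IsNormalHom i
  points : (postHom i).range = P

attribute [instance] Sub.grp Sub.hom Sub.closed Sub.geomRed

instance Sub.lft {P} (s : Sub G P) : LocallyOfFiniteType s.K.hom := by
  rw [← Over.w s.i]; infer_instance

instance Sub.qc {P} (s : Sub G P) : QuasiCompact s.K.hom := by
  rw [← Over.w s.i]; infer_instance

theorem sub_top : Nonempty (Sub G ⊤) := by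
  refine ⟨{ K := G, i := 𝟙 G, hom := inferInstance, closed := inferInstanceAs (IsClosedImmersion (𝟙 G.left)), geomRed := inferInstance, normal := fun T g n => ⟨g * n * g⁻¹, by simp only [Category.comp_id]⟩, points := ?_ }⟩
  ext z
  exact ⟨fun _ => trivial, fun _ => ⟨z, Category.comp_id z⟩⟩

theorem sub_commutator {P Q : Subgroup (𝟙_ (Over (Spec (CommRingCat.of k))) ⟶ G)} (s : Sub G P) (t : Sub G Q) :
    Nonempty (Sub G ⁅P, Q⁆) ∧
    ∃ L : ℕ, ((⁅P, Q⁆ : Subgroup _) : Set (𝟙_ (Over (Spec (CommRingCat.of k))) ⟶ G)) ⊆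
      bset {g | ∃ x ∈ P, ∃ y ∈ Q, ⁅x, y⁆ = g} L := by
  have hb := (exists_comm_bound s.i t.i s.normal t.normal).1
  rw [s.points, t.points] at hb
  refine ⟨?_, hb⟩
  haveI : P.Normal := by
    rw [← s.points]
    exact ⟨by rintro _ ⟨x, rfl⟩ g; obtain ⟨n, hn⟩ := s.normal _ g x; exact ⟨n, hn.symm⟩⟩
  haveI : Q.Normal := by
    rw [← t.points]
    exact ⟨by rintro _ ⟨x, rfl⟩ g; obtain ⟨n, hn⟩ := t.normal _ g x; exact ⟨n, hn.symm⟩⟩
  haveI : GeometricallyReduced (s.K ⊗ t.K).hom := GeomRedPull.geometricallyReduced_pullback s.K.hom t.K.hom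
  obtain ⟨K, hK, i, w, him, hici, hw, hd, hf, hmin⟩ := exists_generated
    ((fst s.K t.K ≫ s.i) * (snd s.K t.K ≫ t.i) * (fst s.K t.K ≫ s.i)⁻¹ * (snd s.K t.K ≫ t.i)⁻¹)
  haveI := hici
  haveI := geometricallyReduced_src (s.K ⊗ t.K)
  haveI : GeometricallyReduced K.hom := geometricallyReduced_of_dense hd
  have h := Groth.Agent.S6073.result k G s.K t.K s.i t.i (Or.inl ⟨s.normal, t.normal, inferInstance⟩) K i hf
    (fun Γ' hΓ i' h1 h2 h3 => hmin Γ' hΓ i' h1 h2 h3)
  rw [show Subgroup.closure (Set.range fun x : 𝟙_ (Over (Spec (CommRingCat.of k))) ⟶ s.K => x ≫ s.i) = (postHom s.i).range from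
      Subgroup.closure_eq (postHom s.i).range,
    show Subgroup.closure (Set.range fun x : 𝟙_ (Over (Spec (CommRingCat.of k))) ⟶ t.K => x ≫ t.i) = (postHom t.i).range from
      Subgroup.closure_eq (postHom t.i).range, s.points, t.points] at h
  have hpts : (postHom i).range = ⁅P, Q⁆ := SetLike.coe_injective h
  refine ⟨{ K := K, i := i, hom := him, closed := hici, geomRed := inferInstance, normal := ?_, points := hpts }⟩
  haveI : GeometricallyReduced (G ⊗ K).hom := GeomRedPull.geometricallyReduced_pullback G.hom K.hom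
  haveI := isReduced_left (G ⊗ K)
  haveI : LocallyOfFiniteType (G ⊗ K).hom := by
    haveI : LocallyOfFiniteType K.hom := by rw [← Over.w i]; infer_instance
    haveI : LocallyOfFiniteType (pullback.fst G.hom K.hom) := MorphismProperty.pullback_fst _ _ ‹_›
    exact inferInstanceAs (LocallyOfFiniteType (pullback.fst G.hom K.hom ≫ G.hom))
  obtain ⟨c, hc⟩ := exists_factor_rat (fst G K * (snd G K ≫ i) * (fst G K)⁻¹) i fun d => by
    have hn : (d ≫ fst G K) * ((d ≫ snd G K) ≫ i) * (d ≫ fst G K)⁻¹ ∈ (postHom i).range := by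
      rw [hpts]
      refine (Subgroup.commutator_normal P Q).conj_mem _ ?_ _
      rw [← hpts]; exact ⟨_, rfl⟩
    obtain ⟨d', hd'⟩ := hn
    refine ⟨d', ?_⟩
    rw [← postHom_apply i d', hd']
    simp [MonObj.comp_mul, GrpObj.comp_inv]
  intro T g n
  refine ⟨lift g n ≫ c, ?_⟩
  rw [Category.assoc, hc]
  simp [MonObj.comp_mul, GrpObj.comp_inv]

variable (G)

theorem exists_sub_ser (b : Bool) (n : ℕ) :
    Nonempty (Sub G (ser b _ n)) ∧
    ∃ N, ((ser b (𝟙_ (Over (Spec (CommRingCat.of k))) ⟶ G) n : Subgroup _) : Set _) ⊆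
      bset (tree b (𝟙_ (Over (Spec (CommRingCat.of k))) ⟶ G) n) N := by
  induction n with
  | zero => exact ⟨sub_top, 1, fun x _ => mem_bset_one trivial⟩
  | succ n ih =>
    obtain ⟨⟨s⟩, N, hN⟩ := ih
    have hT : Nonempty (Sub G (if b then ser b _ n else ⊤)) := by
      cases b
      · exact sub_top
      · exact ⟨s⟩
    obtain ⟨t⟩ := hT
    obtain ⟨hs, L, hL⟩ := sub_commutator s t
    refine ⟨hs, L * (N * max N 1), hL.trans (bset_bind ?_ L)⟩
    rintro _ ⟨x, hx, y, hy, rfl⟩
    refine commutator_mem_bset (conjInv_tree b (n + 1)) (Y := {y | b = true → y ∈ tree b _ n})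
      (fun x hx y hy => ⟨x, hx, y, hy, rfl⟩) (hN hx) ?_
    cases b
    · exact bset_mono _ (le_max_right N 1) (mem_bset_one (fun h => by cases h))
    · have e : {y : 𝟙_ (Over (Spec (CommRingCat.of k))) ⟶ G | true = true → y ∈ tree true _ n} = tree true _ n := by
        ext y; simp
      rw [e]
      exact bset_mono _ (le_max_left N 1) (hN hy)

/-- The series stabilises and the stable term is boundedly generated by deeper commutators. -/
theorem exists_stable (b : Bool) : ∃ n N : ℕ,
    tree b (𝟙_ (Over (Spec (CommRingCat.of k))) ⟶ G) n ⊆ bset (tree b (𝟙_ (Over (Spec (CommRingCat.of k))) ⟶ G) (n + 1)) N := by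
  choose hS N hN using exists_sub_ser G b
  let s : ∀ n, Sub G (ser b _ n) := fun n => (hS n).some
  haveI : IsLocallyNoetherian G.left := LocallyOfFiniteType.isLocallyNoetherian G.hom
  haveI : CompactSpace G.left := QuasiCompact.compactSpace_of_compactSpace (Y := Spec (CommRingCat.of k)) G.hom
  haveI : AlgebraicGeometry.IsNoetherian G.left := {}
  let R : ℕ → TopologicalSpace.Closeds G.left := fun n =>
    ⟨Set.range (s n).i.left, (s n).i.left.isClosedEmbedding.isClosed_range⟩
  obtain ⟨_, ⟨n, rfl⟩, hmin⟩ := (wellFounded_lt : WellFounded ((· < ·) : TopologicalSpace.Closeds G.left → _ → Prop)).has_min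
    (Set.range R) ⟨_, 0, rfl⟩
  have hle : R (n + 1) ≤ R n := by
    haveI := isReduced_left (s (n + 1)).K
    obtain ⟨l, hl⟩ := exists_factor_rat (s (n + 1)).i (s n).i fun d => by
      have h : d ≫ (s (n + 1)).i ∈ (postHom (s n).i).range := by
        rw [(s n).points]
        exact ser_succ_le b n ((s (n + 1)).points.le ⟨d, rfl⟩)
      exact h
    rintro _ ⟨x, rfl⟩
    exact ⟨l.left x, by rw [← Scheme.Hom.comp_apply, ← Over.comp_left, hl]⟩
  have heq : R (n + 1) = R n := hle.eq_or_lt.resolve_right (hmin _ ⟨n + 1, rfl⟩)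
  refine ⟨n, N (n + 1), fun z hz => hN (n + 1) ?_⟩
  obtain ⟨d, hd⟩ : z ∈ (postHom (s n).i).range := (s n).points.ge (tree_subset_ser b n hz)
  have hz' : rpt z ∈ Set.range (s (n + 1)).i.left := by
    show rpt z ∈ (R (n + 1) : Set G.left)
    rw [heq, ← hd]
    exact ⟨rpt d, map_rpt _ _⟩
  obtain ⟨x, hx⟩ := exists_rat_lift (s (n + 1)).i z (IsLocalRing.closedPoint k) hz'
  exact (s (n + 1)).points.le ⟨x, hx⟩

end Groth.Agent.SubGen
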