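import Groth.Agent.SubGen.Series
import Mathlib

/-!
# Words in a morphism into a group scheme over any base
-/

universe u

open CategoryTheory CategoryTheory.Limits MonoidalCategory CartesianMonoidalCategory MonObj GrpObj AlgebraicGeometry

set_option backward.isDefEq.respectTransparency false

noncomputable section

namespace Groth.Agent.SubGen.Rel

variable {S : Scheme.{u}} {X H : Over S} [GrpObj H]

/-- the source of a word -/
def src (X : Over S) : List Bool → Over S
  | [] => 𝟙_ _
  | _ :: l => X ⊗ src X l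

/-- a word -/
def word (f : X ⟶ H) : ∀ l : List Bool, src X l ⟶ H
  | [] => η[H]
  | true :: l => (fst X (src X l) ≫ f) * (snd X (src X l) ≫ word f l)
  | false :: l => (fst X (src X l) ≫ f)⁻¹ * (snd X (src X l) ≫ word f l)


variable (f : X ⟶ H)

open scoped Pointwise in
theorem mem_bset_iff {T : Over S} : ∀ (N : ℕ) (z : T ⟶ H),
    z ∈ SubGen.bset (Set.range fun t : T ⟶ X => t ≫ f) N ↔
      ∃ l : List Bool, l.length ≤ N ∧ ∃ a : T ⟶ src X l, a ≫ word f l = z
  | 0, z => by
    constructor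
    · intro hz
      refine ⟨[], le_rfl, toUnit T, ?_⟩
      rw [show z = 1 from hz, Hom.one_def]
      rfl
    · rintro ⟨l, hl, a, rfl⟩
      obtain rfl := List.length_eq_zero_iff.1 (Nat.le_zero.1 hl)
      show a ≫ η[H] = 1
      rw [toUnit_unique a (toUnit T), ← Hom.one_def]
  | N + 1, z => by
    constructor
    · rintro ⟨e, he, z, hz, rfl⟩
      obtain ⟨l, hl, a, rfl⟩ := (mem_bset_iff N z).1 hz
      rcases he with (⟨t, rfl⟩ | he) | he
      · refine ⟨true :: l, Nat.succ_le_succ hl, lift t a, ?_⟩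
        show lift t a ≫ ((fst X _ ≫ f) * (snd X _ ≫ word f l)) = _
        simp [MonObj.comp_mul]
      · obtain ⟨t, ht⟩ := Set.mem_inv.1 he
        refine ⟨false :: l, Nat.succ_le_succ hl, lift t a, ?_⟩
        show lift t a ≫ ((fst X _ ≫ f)⁻¹ * (snd X _ ≫ word f l)) = _
        rw [← inv_inv e, ← ht]
        simp [MonObj.comp_mul, GrpObj.comp_inv]
      · refine ⟨l, Nat.le_succ_of_le hl, a, ?_⟩
        show _ = e * (a ≫ word f l)
        rw [show e = 1 from he, _root_.one_mul]
    · rintro ⟨l, hl, a, rfl⟩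
      match l, hl, a with
      | [], _, a =>
        refine SubGen.bset_succ_subset _ _ ((mem_bset_iff N _).2 ⟨[], Nat.zero_le N, a, rfl⟩)
      | true :: l, hl, a =>
        refine ⟨_, Or.inl (Or.inl ⟨a ≫ fst X (src X l), rfl⟩), _,
          (mem_bset_iff N _).2 ⟨l, Nat.le_of_succ_le_succ hl, a ≫ snd X (src X l), rfl⟩, ?_⟩
        show _ = a ≫ ((fst X _ ≫ f) * (snd X _ ≫ word f l))
        simp [MonObj.comp_mul]
      | false :: l, hl, a =>
        refine ⟨((a ≫ fst X (src X l)) ≫ f)⁻¹, Or.inl (Or.inr (Set.inv_mem_inv.2 ⟨a ≫ fst X (src X l), rfl⟩)), _,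
          (mem_bset_iff N _).2 ⟨l, Nat.le_of_succ_le_succ hl, a ≫ snd X (src X l), rfl⟩, ?_⟩
        show _ = a ≫ ((fst X _ ≫ f)⁻¹ * (snd X _ ≫ word f l))
        simp [MonObj.comp_mul, GrpObj.comp_inv]

theorem prop_src (P : MorphismProperty Scheme.{u}) [P.IsStableUnderBaseChange] [P.IsStableUnderComposition]
    [P.ContainsIdentities] (hX : P X.hom) : ∀ l, P (src X l).hom
  | [] => P.id_mem S
  | _ :: l => P.comp_mem _ _ (MorphismProperty.pullback_fst _ _ (prop_src P hX l)) hX

end Groth.Agent.SubGen.Rel
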