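import Groth.Prelude.Def_Red
import Groth.Prelude.Def_Red2
import Groth.Prelude.Def_AGF
import Groth.Agent.SubGen.SeriesField
import Groth.Agent.SubGen.WordsBase
import Groth.Agent.S5366
import Groth.Agent.ConsTop.Maps
import Groth.Agent.ConsEngine.SetProp
import Groth.Agent.LimDesc.FPCancel

/-!
# The locus of solvable and nilpotent geometric fibres
-/

universe u

open CategoryTheory CategoryTheory.Limits MonoidalCategory CartesianMonoidalCategory MonObj GrpObj AlgebraicGeometry
open Topology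
open scoped commutatorElement

set_option backward.isDefEq.respectTransparency false

noncomputable section

namespace Groth.Agent.SubGen.Locus

variable {S : Scheme.{u}} (G : Over S) [GrpObj G]

/-- The source and map of the commutator tree. -/
def next : Bool → (Σ U : Over S, U ⟶ G) → Σ U : Over S, U ⟶ G
  | true, ⟨U, W⟩ => ⟨U ⊗ U, ⁅fst U U ≫ W, snd U U ≫ W⁆⟩
  | false, ⟨U, W⟩ => ⟨U ⊗ G, ⁅fst U G ≫ W, snd U G⁆⟩

/-- The tree as a morphism. -/
def treeMor (b : Bool) : ℕ → Σ U : Over S, U ⟶ G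
  | 0 => ⟨G, 𝟙 G⟩
  | n + 1 => next G b (treeMor b n)

theorem comp_comm {T U : Over S} (t : T ⟶ U) (x y : U ⟶ G) : t ≫ ⁅x, y⁆ = ⁅t ≫ x, t ≫ y⁆ := by
  simp [commutatorElement_def, MonObj.comp_mul, GrpObj.comp_inv]

theorem range_next_true (p : Σ U : Over S, U ⟶ G) (T : Over S) :
    Set.range (fun t : T ⟶ (next G true p).1 => t ≫ (next G true p).2) =
      {g | ∃ x ∈ Set.range (fun t : T ⟶ p.1 => t ≫ p.2), ∃ y ∈ Set.range (fun t : T ⟶ p.1 => t ≫ p.2), ⁅x, y⁆ = g} := by
  obtain ⟨U, W⟩ := p
  ext g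
  constructor
  · rintro ⟨t, rfl⟩
    exact ⟨_, ⟨t ≫ fst U U, rfl⟩, _, ⟨t ≫ snd U U, rfl⟩, by simp only [next, comp_comm, Category.assoc]⟩
  · rintro ⟨_, ⟨a, rfl⟩, _, ⟨c, rfl⟩, rfl⟩
    refine ⟨lift a c, ?_⟩
    show lift a c ≫ ⁅fst U U ≫ W, snd U U ≫ W⁆ = _
    rw [comp_comm, lift_fst_assoc, lift_snd_assoc]

theorem range_next_false (p : Σ U : Over S, U ⟶ G) (T : Over S) :
    Set.range (fun t : T ⟶ (next G false p).1 => t ≫ (next G false p).2) =
      {g | ∃ x ∈ Set.range (fun t : T ⟶ p.1 => t ≫ p.2), ∃ y : T ⟶ G, ⁅x, y⁆ = g} := by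
  obtain ⟨U, W⟩ := p
  ext g
  constructor
  · rintro ⟨t, rfl⟩
    exact ⟨_, ⟨t ≫ fst U G, rfl⟩, t ≫ snd U G, by simp only [next, comp_comm, Category.assoc]⟩
  · rintro ⟨_, ⟨a, rfl⟩, y, rfl⟩
    refine ⟨lift a y, ?_⟩
    show lift a y ≫ ⁅fst U G ≫ W, snd U G⁆ = _
    rw [comp_comm, lift_fst_assoc, lift_snd]

/-- The values of the tree morphism are the iterated commutators. -/
theorem tree_eq (b : Bool) (T : Over S) : ∀ n, tree b (T ⟶ G) n =
    Set.range (fun t : T ⟶ (treeMor G b n).1 => t ≫ (treeMor G b n).2) := by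
  intro n
  induction n with
  | zero =>
    ext g
    exact ⟨fun _ => ⟨g, Category.comp_id g⟩, fun _ => trivial⟩
  | succ n ih =>
    cases b
    · show _ = Set.range (fun t : T ⟶ (next G false (treeMor G false n)).1 => t ≫ (next G false (treeMor G false n)).2)
      rw [range_next_false, ← ih]
      ext g
      exact ⟨fun ⟨x, hx, y, _, h⟩ => ⟨x, hx, y, h⟩, fun ⟨x, hx, y, h⟩ => ⟨x, hx, y, fun e => (Bool.false_ne_true e).elim, h⟩⟩
    · show _ = Set.range (fun t : T ⟶ (next G true (treeMor G true n)).1 => t ≫ (next G true (treeMor G true n)).2)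
      rw [range_next_true, ← ih]
      ext g
      exact ⟨fun ⟨x, hx, y, hy, h⟩ => ⟨x, hx, y, hy rfl, h⟩, fun ⟨x, hx, y, hy, h⟩ => ⟨x, hx, y, fun _ => hy, h⟩⟩

theorem prop_treeMor (P : MorphismProperty Scheme.{u}) [P.IsStableUnderBaseChange] [P.IsStableUnderComposition]
    (hG : P G.hom) (b : Bool) : ∀ n, P (treeMor G b n).1.hom := by
  intro n
  induction n with
  | zero => exact hG
  | succ n ih =>
    cases b
    · exact P.comp_mem _ _ (MorphismProperty.pullback_fst _ _ hG) ih
    · exact P.comp_mem _ _ (MorphismProperty.pullback_fst _ _ ih) ih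

section points

/-- The geometric point at `s`. -/
abbrev gpt (s : S) : Over S := Over.mk (Red.geomPt s)

/-- the point of the geometric point -/
abbrev pt₀ (s : S) : (gpt s).left := IsLocalRing.closedPoint (AlgebraicClosure (S.residueField s))

theorem eq_pt₀ {s : S} (t : (gpt s).left) : t = pt₀ s :=
  haveI : Subsingleton (gpt s).left := inferInstanceAs (Subsingleton (PrimeSpectrum _))
  Subsingleton.elim _ _

theorem hom_pt₀ (s : S) {U : Over S} (u : gpt s ⟶ U) : U.hom (u.left (pt₀ s)) = s := by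
  rw [← Scheme.Hom.comp_apply, Over.w]
  show (Spec.map _ ≫ S.fromSpecResidueField s) (pt₀ s) = s
  rw [Scheme.Hom.comp_apply, Scheme.fromSpecResidueField_apply]

variable {G}

theorem exists_lift {U Y : Over S} (f : U ⟶ Y) [LocallyOfFiniteType f.left] {s : S} (x : gpt s ⟶ Y)
    (h : x.left (pt₀ s) ∈ Set.range f.left) : ∃ u : gpt s ⟶ U, u ≫ f = x := by
  let P := pullback f.left x.left
  obtain ⟨w, hw⟩ := h
  obtain ⟨p, -, -⟩ := Scheme.Pullback.exists_preimage_pullback w (pt₀ s) hw
  let q : P ⟶ Spec (CommRingCat.of (AlgebraicClosure (S.residueField s))) := pullback.snd f.left x.left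
  haveI : LocallyOfFiniteType q := MorphismProperty.pullback_snd _ _ ‹_›
  haveI : JacobsonSpace P := LocallyOfFiniteType.jacobsonSpace q
  obtain ⟨v, -, hv⟩ := nonempty_inter_closedPoints (Z := (Set.univ : Set P)) ⟨p, trivial⟩ isClosed_univ.isLocallyClosed
  let σ := pointOfClosedPoint q v hv
  have hσ : σ ≫ pullback.snd f.left x.left = 𝟙 _ := pointOfClosedPoint_comp q v hv
  refine ⟨Over.homMk (σ ≫ pullback.fst f.left x.left) ?_, Over.OverMorphism.ext ?_⟩
  · show (σ ≫ pullback.fst f.left x.left) ≫ U.hom = _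
    rw [← Over.w f, Category.assoc, pullback.condition_assoc, reassoc_of% hσ, Over.w x]
  · show (σ ≫ pullback.fst f.left x.left) ≫ f.left = x.left
    rw [Category.assoc, pullback.condition, reassoc_of% hσ]

theorem exists_pt_mem {U : Over S} [LocallyOfFiniteType U.hom] {E : Set U.left} (hE : IsLocallyConstructible E)
    {y : U.left} (hy : y ∈ E) : ∃ u : gpt (U.hom y) ⟶ U, u.left (pt₀ _) ∈ E := by
  let φ := Red.geomPt (U.hom y)
  let q : pullback U.hom φ ⟶ Spec (CommRingCat.of (AlgebraicClosure (S.residueField (U.hom y)))) := pullback.snd U.hom φ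
  haveI : LocallyOfFiniteType q := MorphismProperty.pullback_snd _ _ ‹_›
  haveI : JacobsonSpace ↥(pullback U.hom φ) := LocallyOfFiniteType.jacobsonSpace q
  let p := pullback.fst U.hom φ
  obtain ⟨z, hz, -⟩ := Scheme.Pullback.exists_preimage_pullback (f := U.hom) (g := φ) y (pt₀ (U.hom y)) (by
    show U.hom y = (Spec.map _ ≫ S.fromSpecResidueField (U.hom y)) _
    rw [Scheme.Hom.comp_apply, Scheme.fromSpecResidueField_apply])
  have hc : IsLocallyConstructible (p ⁻¹' E) := ConsEngine.isLocallyConstructible_preimage p hE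
  obtain ⟨v, hv, hvc⟩ : ∃ v ∈ p ⁻¹' E, v ∈ closedPoints _ := by
    by_contra hno
    push Not at hno
    have he := eq_univ_of_closedPoints (ConsTop.isLocallyConstructible_compl hc) fun v hv hvE => hno v hvE hv
    exact (he.ge (Set.mem_univ z)) (show p z ∈ E from hz.symm ▸ hy)
  let σ := pointOfClosedPoint q v hvc
  have hσ : σ ≫ q = 𝟙 _ := pointOfClosedPoint_comp q v hvc
  refine ⟨Over.homMk (σ ≫ p) ?_, ?_⟩
  · show (σ ≫ p) ≫ U.hom = φ
    rw [Category.assoc, pullback.condition, reassoc_of% hσ]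
  · show (σ ≫ p) (pt₀ _) ∈ E
    rw [Scheme.Hom.comp_apply, pointOfClosedPoint_apply]
    exact hv

variable (G)

/-- the points of the unit -/
def unitSet : Set G.left := Set.range η[G].left

theorem mem_unitSet_iff [LocallyOfFiniteType η[G].left] {s : S} (x : gpt s ⟶ G) :
    x.left (pt₀ s) ∈ unitSet G ↔ x = 1 := by
  constructor
  · intro h
    obtain ⟨u, hu⟩ := exists_lift η[G] x h
    rw [← hu, toUnit_unique u (toUnit _), ← Hom.one_def]
  · rintro rfl
    exact ⟨(toUnit (gpt s)).left (pt₀ s), rfl⟩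

attribute [local instance] Functor.grpObjObj in
/-- Points of a base change. -/
def baseEquiv {T : Scheme.{u}} (φ : T ⟶ S) (G : Over S) [GrpObj G] (Y : Over T) :
    ((Over.map φ).obj Y ⟶ G) ≃* (Y ⟶ (Over.pullback φ).obj G) :=
  { (Over.mapPullbackAdj φ).homEquiv Y G with
    map_mul' := fun x y => by
      show (Over.mapPullbackAdj φ).homEquiv Y G (x * y) =
        (Over.mapPullbackAdj φ).homEquiv Y G x * (Over.mapPullbackAdj φ).homEquiv Y G y
      rw [Adjunction.homEquiv_unit, Adjunction.homEquiv_unit, Adjunction.homEquiv_unit, Functor.map_mul, MonObj.comp_mul] }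

/-- The group of points as rational points of the geometric fibre. -/
def ptsMulEquiv (s : S) : (gpt s ⟶ G) ≃*
    (𝟙_ (Over (Spec (CommRingCat.of (AlgebraicClosure (S.residueField s))))) ⟶ Red.geomFibre s G) :=
  let φ := Red.geomPt s
  let e : (Over.map φ).obj (𝟙_ _) ≅ gpt s := Over.isoMk (Iso.refl _) (by
    show 𝟙 _ ≫ φ = 𝟙 _ ≫ φ
    rfl)
  let e' : (gpt s ⟶ G) ≃* ((Over.map φ).obj (𝟙_ _) ⟶ G) :=
    { toFun := fun x => e.hom ≫ x
      invFun := fun x => e.inv ≫ x
      left_inv := fun x => Iso.inv_hom_id_assoc e x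
      right_inv := fun x => Iso.hom_inv_id_assoc e x
      map_mul' := fun x y => MonObj.comp_mul _ x y }
  e'.trans (baseEquiv φ G _)

end points

/-- The set of points over which the series of points terminates. -/
def locus (b : Bool) : Set S := {s | ∃ n, ser b (gpt s ⟶ G) n = ⊥}

variable [LocallyOfFinitePresentation G.hom] [QuasiCompact G.hom] [QuasiSeparated G.hom]

instance lfp_unit : LocallyOfFinitePresentation η[G].left := by
  haveI : LocallyOfFinitePresentation (η[G].left ≫ G.hom) := by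
    rw [Over.w]; exact inferInstanceAs (LocallyOfFinitePresentation (𝟙 S))
  exact LimDesc.lfp_of_comp η[G].left G.hom

theorem qc_left {U : Over S} [QuasiCompact U.hom] (f : U ⟶ G) : QuasiCompact f.left := by
  haveI : QuasiCompact (f.left ≫ G.hom) := by rw [Over.w]; infer_instance
  exact QuasiCompact.of_comp f.left G.hom

theorem lfp_left {U : Over S} [LocallyOfFinitePresentation U.hom] (f : U ⟶ G) :
    LocallyOfFinitePresentation f.left := by
  haveI : LocallyOfFinitePresentation (f.left ≫ G.hom) := by rw [Over.w]; infer_instance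
  exact LimDesc.lfp_of_comp f.left G.hom

theorem isLocallyConstructible_unitSet : IsLocallyConstructible (unitSet G) := by
  haveI : QuasiCompact (𝟙_ (Over S)).hom := inferInstanceAs (QuasiCompact (𝟙 S))
  haveI := qc_left G η[G]
  rw [unitSet, ← Set.image_univ]
  exact η[G].left.isLocallyConstructible_image .univ

/-- The points over which the depth `n` tree is trivial. -/
def Z (b : Bool) (n : ℕ) : Set S := ((treeMor G b n).1.hom '' ((treeMor G b n).2.left ⁻¹' (unitSet G))ᶜ)ᶜ

theorem lfp_tree (b : Bool) (n : ℕ) : LocallyOfFinitePresentation (treeMor G b n).1.hom :=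
  prop_treeMor G @LocallyOfFinitePresentation ‹_› b n

theorem qc_tree (b : Bool) (n : ℕ) : QuasiCompact (treeMor G b n).1.hom :=
  prop_treeMor G @QuasiCompact ‹_› b n

theorem isLocallyConstructible_Z (b : Bool) (n : ℕ) : IsLocallyConstructible (Z G b n) := by
  haveI := lfp_tree G b n
  haveI := qc_tree G b n
  exact ConsTop.isLocallyConstructible_compl ((treeMor G b n).1.hom.isLocallyConstructible_image
    (ConsTop.isLocallyConstructible_compl (ConsEngine.isLocallyConstructible_preimage _ (isLocallyConstructible_unitSet G))))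

theorem mem_Z_iff (b : Bool) (n : ℕ) (s : S) : s ∈ Z G b n ↔ tree b (gpt s ⟶ G) n ⊆ {1} := by
  haveI := lfp_tree G b n
  constructor
  · intro hs x hx
    rw [tree_eq] at hx
    obtain ⟨t, rfl⟩ := hx
    refine (mem_unitSet_iff G _).1 ?_
    by_contra hne
    refine hs ⟨t.left (pt₀ s), ?_, hom_pt₀ s t⟩
    intro h
    exact hne (by rw [Over.comp_left, Scheme.Hom.comp_apply]; exact h)
  · rintro hs ⟨y, hy, rfl⟩
    obtain ⟨u, hu⟩ := exists_pt_mem (ConsTop.isLocallyConstructible_compl
      (ConsEngine.isLocallyConstructible_preimage _ (isLocallyConstructible_unitSet G))) hy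
    have h1 : u ≫ (treeMor G b n).2 = 1 := hs (by rw [tree_eq]; exact ⟨u, rfl⟩)
    refine hu ?_
    rw [Set.mem_preimage, ← Scheme.Hom.comp_apply, ← Over.comp_left, h1]
    exact (mem_unitSet_iff G _).2 rfl

theorem isClosed_Z [UniversallyOpen G.hom] [IsSeparated G.hom] (b : Bool) (n : ℕ) : IsClosed (Z G b n) := by
  haveI : UniversallyOpen (treeMor G b n).1.hom := prop_treeMor G @UniversallyOpen ‹_› b n
  haveI : IsClosedImmersion η[G].left := by
    haveI : IsClosedImmersion (η[G].left ≫ G.hom) := by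
      rw [Over.w]; exact inferInstanceAs (IsClosedImmersion (𝟙 S))
    exact IsClosedImmersion.of_comp η[G].left G.hom
  exact ((treeMor G b n).1.hom.isOpenMap _
    (η[G].left.isClosedEmbedding.isClosed_range.preimage (treeMor G b n).2.left.continuous).isOpen_compl).isClosed_compl

theorem locus_eq (b : Bool) : locus G b = ⋃ n, Z G b n := by
  ext s
  simp only [locus, Set.mem_setOf_eq, Set.mem_iUnion, mem_Z_iff, ser_eq_bot_iff]

/-- Near a point outside the locus there is a constructible set outside the locus. -/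
theorem exists_constructible_of_not_mem (hsm : ∀ s : S, Smooth (Red.geomFibre s G).hom) (b : Bool) {s₀ : S}
    (hs₀ : s₀ ∉ locus G b) : ∃ E : Set S, IsLocallyConstructible E ∧ s₀ ∈ E ∧ E ∩ locus G b = ∅ := by
  haveI := hsm s₀
  haveI : QuasiCompact (Red.geomFibre s₀ G).hom := MorphismProperty.pullback_snd _ _ ‹_›
  haveI := Rigid.geometricallyReduced_of_smooth (Red.geomFibre s₀ G).hom
  obtain ⟨n, N, hnN⟩ := exists_stable (Red.geomFibre s₀ G) b
  have hnN' : tree b (gpt s₀ ⟶ G) n ⊆ bset (tree b (gpt s₀ ⟶ G) (n + 1)) N := by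
    have e := ptsMulEquiv G s₀
    rw [← map_tree b e, ← map_tree b e, ← map_bset, Set.image_subset_image_iff e.injective] at hnN
    exact hnN
  haveI := lfp_tree G b n
  haveI := qc_tree G b n
  haveI := lfp_tree G b (n + 1)
  haveI := qc_tree G b (n + 1)
  let W := (treeMor G b n).2
  let W' := (treeMor G b (n + 1)).2
  have hl : ∀ l, LocallyOfFinitePresentation (Rel.word W' l).left ∧ QuasiCompact (Rel.word W' l).left := fun l => by
    haveI : MorphismProperty.ContainsIdentities @LocallyOfFinitePresentation.{u} :=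
      ⟨fun X => inferInstanceAs (LocallyOfFinitePresentation (𝟙 X))⟩
    haveI := Rel.prop_src (X := (treeMor G b (n + 1)).1) @LocallyOfFinitePresentation inferInstance l
    haveI := Rel.prop_src (X := (treeMor G b (n + 1)).1) @QuasiCompact inferInstance l
    exact ⟨lfp_left G _, qc_left G _⟩
  haveI := lfp_left G W
  haveI := qc_left G W
  have hcl : IsLocallyConstructible (⋃ l ∈ {l : List Bool | l.length ≤ N}, Set.range (Rel.word W' l).left) :=
    IsLocallyConstructible.biUnion (List.finite_length_le Bool N) fun l _ => by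
      haveI := (hl l).1
      haveI := (hl l).2
      rw [← Set.image_univ]
      exact (Rel.word W' l).left.isLocallyConstructible_image .univ
  have hW : IsLocallyConstructible (Set.range W.left) := by
    rw [← Set.image_univ]; exact W.left.isLocallyConstructible_image .univ
  let A := Set.range W.left ∩ (⋃ l ∈ {l : List Bool | l.length ≤ N}, Set.range (Rel.word W' l).left)ᶜ
  have hA : IsLocallyConstructible A := hW.inter (ConsTop.isLocallyConstructible_compl hcl)
  let B := Set.range W.left ∩ (unitSet G)ᶜ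
  have hB : IsLocallyConstructible B := hW.inter (ConsTop.isLocallyConstructible_compl (isLocallyConstructible_unitSet G))
  refine ⟨(G.hom '' A)ᶜ ∩ G.hom '' B,
    (ConsTop.isLocallyConstructible_compl (G.hom.isLocallyConstructible_image hA)).inter (G.hom.isLocallyConstructible_image hB),
    ⟨?_, ?_⟩, ?_⟩
  · rintro ⟨y, hy, rfl⟩
    obtain ⟨x, hxW, hxN⟩ := exists_pt_mem hA hy
    obtain ⟨t, rfl⟩ := exists_lift W x hxW
    have h1 := hnN' (by rw [tree_eq]; exact ⟨t, rfl⟩)
    rw [tree_eq, Rel.mem_bset_iff] at h1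
    obtain ⟨l, hlN, a, ha⟩ := h1
    refine hxN (Set.mem_biUnion hlN ⟨a.left (pt₀ _), ?_⟩)
    rw [← Scheme.Hom.comp_apply, ← Over.comp_left, ha]
  · have hne : ¬ tree b (gpt s₀ ⟶ G) n ⊆ {1} := fun h => hs₀ ⟨n, (ser_eq_bot_iff b n).2 h⟩
    rw [tree_eq] at hne
    obtain ⟨_, ⟨t, rfl⟩, ht⟩ := Set.not_subset.1 hne
    refine ⟨(t ≫ W).left (pt₀ s₀), ⟨⟨t.left (pt₀ s₀), by rw [Over.comp_left, Scheme.Hom.comp_apply]⟩, ?_⟩, hom_pt₀ s₀ _⟩
    exact fun h => ht ((mem_unitSet_iff G _).1 h)
  · rw [Set.eq_empty_iff_forall_notMem]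
    rintro s ⟨⟨hsA, ⟨y, hy, rfl⟩⟩, m, hm⟩
    refine ser_ne_bot b (n := n) N ?_ ?_ m hm
    · rw [tree_eq, tree_eq]
      rintro _ ⟨t, rfl⟩
      rw [Rel.mem_bset_iff]
      have hin : (t ≫ W).left (pt₀ _) ∈ ⋃ l ∈ {l : List Bool | l.length ≤ N}, Set.range (Rel.word W' l).left := by
        by_contra hno
        exact hsA ⟨_, ⟨⟨t.left (pt₀ _), by rw [Over.comp_left, Scheme.Hom.comp_apply]⟩, hno⟩, hom_pt₀ _ _⟩
      obtain ⟨l, hlN, hr⟩ := Set.mem_iUnion₂.1 hin
      haveI := (hl l).1
      obtain ⟨a, ha⟩ := exists_lift (Rel.word W' l) (t ≫ W) hr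
      exact ⟨l, hlN, a, ha⟩
    · obtain ⟨x, hxW, hxe⟩ := exists_pt_mem hB hy
      obtain ⟨t, rfl⟩ := exists_lift W x hxW
      rw [tree_eq]
      exact fun h => hxe ((mem_unitSet_iff G _).2 (h ⟨t, rfl⟩))

/-- On every affine open the locus is cut out by a single depth. -/
theorem exists_inter_eq (hsm : ∀ s : S, Smooth (Red.geomFibre s G).hom) (b : Bool) {V : S.Opens} (hV : IsAffineOpen V) :
    ∃ N, V.ι ⁻¹' locus G b = ⋃ n ∈ Finset.range N, V.ι ⁻¹' Z G b n := by
  haveI : IsAffine V.toScheme := hV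
  haveI : CompactSpace V.toScheme := inferInstance
  have hopen : IsOpen[constructibleTopology V.toScheme] (V.ι ⁻¹' locus G b)ᶜ := by
    rw [show (V.ι ⁻¹' locus G b)ᶜ = ⋃ s : {s : V.toScheme // V.ι s ∉ locus G b}, V.ι ⁻¹' (exists_constructible_of_not_mem G hsm b s.2).choose from ?_]
    · exact @isOpen_iUnion _ _ (constructibleTopology V.toScheme) _ fun s =>
        (ConsTop.isClopen_of_isLocallyConstructible (ConsEngine.isLocallyConstructible_preimage V.ι
          (exists_constructible_of_not_mem G hsm b s.2).choose_spec.1)).1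
    · ext s
      simp only [Set.mem_compl_iff, Set.mem_preimage, Set.mem_iUnion]
      constructor
      · intro hs
        exact ⟨⟨s, hs⟩, (exists_constructible_of_not_mem G hsm b hs).choose_spec.2.1⟩
      · rintro ⟨t, ht⟩ hs
        exact Set.eq_empty_iff_forall_notMem.1 (exists_constructible_of_not_mem G hsm b t.2).choose_spec.2.2 _ ⟨ht, hs⟩
  have hc : @IsCompact V.toScheme (constructibleTopology V.toScheme) (V.ι ⁻¹' locus G b) :=
    @IsCompact.of_isClosed_subset V.toScheme (constructibleTopology V.toScheme) _ _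
      (ConsTop.isCompact_cons isOpen_univ isCompact_univ)
      (@isOpen_compl_iff V.toScheme _ (constructibleTopology V.toScheme) |>.mp hopen) (Set.subset_univ _)
  obtain ⟨t, ht⟩ := @IsCompact.elim_finite_subcover V.toScheme (constructibleTopology V.toScheme) _ _ hc
    (fun n => V.ι ⁻¹' Z G b n)
    (fun n => (ConsTop.isClopen_of_isLocallyConstructible (ConsEngine.isLocallyConstructible_preimage V.ι (isLocallyConstructible_Z G b n))).1)
    (by rw [locus_eq, Set.preimage_iUnion])
  refine ⟨t.sup id + 1, Set.Subset.antisymm (ht.trans (Set.iUnion₂_subset fun n hn => ?_)) ?_⟩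
  · exact Set.subset_biUnion_of_mem (u := fun n => V.ι ⁻¹' Z G b n)
      (Finset.mem_coe.2 (Finset.mem_range.2 (Nat.lt_succ_of_le (Finset.le_sup (f := id) hn))))
  · rw [locus_eq, Set.preimage_iUnion]
    exact Set.iUnion₂_subset fun n _ => Set.subset_iUnion (fun n => V.ι ⁻¹' Z G b n) n

theorem isLocallyConstructible_locus (hsm : ∀ s : S, Smooth (Red.geomFibre s G).hom) (b : Bool) :
    IsLocallyConstructible (locus G b) := by
  intro x
  obtain ⟨V, hV, hxV, -⟩ := exists_isAffineOpen_mem_and_subset (X := S) (x := x) (U := ⊤) trivial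
  obtain ⟨N, hN⟩ := exists_inter_eq G hsm b hV
  refine ⟨V, V.2.mem_nhds hxV, V.2, ?_⟩
  haveI : IsAffine V.toScheme := hV
  have h : IsLocallyConstructible (V.ι ⁻¹' locus G b) := hN ▸ IsLocallyConstructible.biUnion
    (Finset.range N).finite_toSet fun n _ => ConsEngine.isLocallyConstructible_preimage V.ι (isLocallyConstructible_Z G b n)
  exact h.isConstructible

theorem isClosed_locus [UniversallyOpen G.hom] [IsSeparated G.hom] (hsm : ∀ s : S, Smooth (Red.geomFibre s G).hom) (b : Bool) :
    IsClosed (locus G b) := by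
  rw [← isOpen_compl_iff, isOpen_iff_forall_mem_open]
  intro x hx
  obtain ⟨V, hV, hxV, -⟩ := exists_isAffineOpen_mem_and_subset (X := S) (x := x) (U := ⊤) trivial
  obtain ⟨N, hN⟩ := exists_inter_eq G hsm b hV
  have hcl : IsClosed (⋃ n ∈ Finset.range N, Z G b n) :=
    (Finset.range N).finite_toSet.isClosed_biUnion fun n _ => isClosed_Z G b n
  refine ⟨(V : Set S) \ ⋃ n ∈ Finset.range N, Z G b n, ?_, V.2.sdiff hcl, hxV, ?_⟩
  · rintro s ⟨hsV, hs⟩ hsl
    have := hN.le (show (⟨s, hsV⟩ : V.toScheme) ∈ V.ι ⁻¹' locus G b from hsl)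
    obtain ⟨n, hn, h⟩ := Set.mem_iUnion₂.1 this
    exact hs (Set.mem_biUnion hn h)
  · intro h
    obtain ⟨n, hn, h⟩ := Set.mem_iUnion₂.1 h
    exact hx (by rw [locus_eq]; exact Set.mem_iUnion.2 ⟨n, h⟩)

section grp

omit [LocallyOfFinitePresentation G.hom] [QuasiSeparated G.hom]

theorem ser_geomFibre_iff (b : Bool) (s : S) [Smooth (Red.geomFibre s G).hom] (n : ℕ) :
    (∀ X, ser b (X ⟶ Red.geomFibre s G) n = ⊥) ↔ ser b (gpt s ⟶ G) n = ⊥ := by
  haveI : QuasiCompact (Red.geomFibre s G).hom := MorphismProperty.pullback_snd _ _ ‹QuasiCompact G.hom›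
  let Ω := AlgebraicClosure (S.residueField s)
  have key : ser b (ptL Ω Ω ⟶ Red.geomFibre s G) n = ⊥ ↔ ser b (gpt s ⟶ G) n = ⊥ := by
    let e : (gpt s ⟶ G) ≃* (ptL Ω Ω ⟶ Red.geomFibre s G) := (ptsMulEquiv G s).trans
      { toFun := fun x => (ptIso Ω).inv ≫ x
        invFun := fun x => (ptIso Ω).hom ≫ x
        left_inv := fun x => Iso.hom_inv_id_assoc (ptIso Ω) x
        right_inv := fun x => Iso.inv_hom_id_assoc (ptIso Ω) x
        map_mul' := fun x y => MonObj.comp_mul _ x y }
    rw [ser_eq_bot_iff, ser_eq_bot_iff, ← map_tree b e]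
    constructor
    · intro h x hx
      exact e.injective ((h ⟨x, hx, rfl⟩).trans (map_one e).symm)
    · rintro h _ ⟨x, hx, rfl⟩
      rw [show x = 1 from h hx, map_one]
      rfl
  rw [← key]
  have h := Groth.Agent.S5366.result Ω (Red.geomFibre s G) Ω n
  cases b
  · simp only [ser_false]; exact h.2
  · simp only [ser_true]; exact h.1

theorem isSolvable_eq_locus (hsm : ∀ s : S, Smooth (Red.geomFibre s G).hom) :
    {s : S | Red.IsSolvableGrp (Red.geomFibre s G)} = locus G true := by
  ext s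
  haveI := hsm s
  refine exists_congr fun n => ?_
  rw [← ser_geomFibre_iff G true s n]
  simp only [ser_true]

theorem isNilpotent_eq_locus (hsm : ∀ s : S, Smooth (Red.geomFibre s G).hom) :
    {s : S | AGF.IsNilpotentGrp (Red.geomFibre s G)} = locus G false := by
  ext s
  haveI := hsm s
  refine exists_congr fun n => ?_
  rw [← ser_geomFibre_iff G false s n]
  simp only [ser_false]
  exact forall_congr' fun X => Subgroup.lowerCentralSeries_eq_bot_iff_upperCentralSeries_eq_top.symm

end grp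

end Groth.Agent.SubGen.Locus
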