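import Groth.Agent.SubGen.Rat
import Groth.Agent.SubGen.Words
import Groth.Agent.GrpField.Range

/-!
# Words of bounded length exhaust the generated subgroup
-/

universe u

open CategoryTheory CategoryTheory.Limits MonoidalCategory CartesianMonoidalCategory MonObj GrpObj AlgebraicGeometry
open scoped Pointwise

set_option backward.isDefEq.respectTransparency false

noncomputable section

namespace Groth.Agent.SubGen

variable {k : Type u} [Field k] {G X : Over (Spec (CommRingCat.of k))} [GrpObj G]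

theorem word_comp {Γ : Over (Spec (CommRingCat.of k))} [GrpObj Γ] (i : Γ ⟶ G) [IsMonHom i] (f : X ⟶ Γ) :
    ∀ l, word f l ≫ i = word (f ≫ i) l
  | [] => IsMonHom.one_hom i
  | b :: l => by
    show ((fst X (src X l) ≫ letter f b) * (snd X (src X l) ≫ word f l)) ≫ i = _
    rw [MonObj.mul_comp, Category.assoc, Category.assoc, word_comp i f l]
    show _ = (fst X (src X l) ≫ letter (f ≫ i) b) * (snd X (src X l) ≫ word (f ≫ i) l)
    congr 2
    cases b <;> simp [letter, GrpObj.inv_comp]

/-- The smallest closed subgroup receiving `f` receives the words densely. -/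
theorem jointlyDense_of_min (f : X ⟶ G) {Γ : Over (Spec (CommRingCat.of k))} [GrpObj Γ] (i : Γ ⟶ G) [IsMonHom i]
    [IsClosedImmersion i.left] (f' : X ⟶ Γ) (hf' : f' ≫ i = f)
    (hmin : ∀ (Γ' : Over (Spec (CommRingCat.of k))) (_ : GrpObj Γ') (i' : Γ' ⟶ G), IsMonHom i' → IsClosedImmersion i'.left →
      (∃ f'' : X ⟶ Γ', f'' ≫ i' = f) → ∃ j : Γ ⟶ Γ', j ≫ i' = i) :
    JointlyDense (word f') := by
  obtain ⟨K, hK, j, w, hjm, hjci, hw, hd, hfK, hKmin⟩ := exists_generated f
  obtain ⟨a, ha⟩ := hmin K hK j hjm hjci hfK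
  obtain ⟨b, hb⟩ := hKmin Γ inferInstance i inferInstance inferInstance ⟨f', hf'⟩
  haveI := hjci
  haveI : Mono i := GrpField.SchImg.mono_of_isClosedImmersion i
  haveI : Mono j := GrpField.SchImg.mono_of_isClosedImmersion j
  haveI : IsIso a := ⟨b, by rw [← cancel_mono i, Category.assoc, hb, ha, Category.id_comp],
    by rw [← cancel_mono j, Category.assoc, ha, hb, Category.id_comp]⟩
  haveI : IsIso a.left := inferInstanceAs (IsIso ((Over.forget _).map a))
  intro Z z hz hfac
  haveI : IsClosedImmersion (z ≫ a).left := by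
    rw [Over.comp_left]; exact inferInstance
  haveI : IsIso (z ≫ a) := hd Z (z ≫ a) inferInstance fun l => by
    obtain ⟨x, hx⟩ := hfac l
    refine ⟨x, ?_⟩
    rw [← cancel_mono j, hw, ← Category.assoc, hx, Category.assoc, ha, word_comp, hf']
  exact IsIso.of_isIso_comp_right z a

variable {L : Type u} [Field L] [Algebra k L] [IsAlgClosed L]
  [LocallyOfFiniteType G.hom] [LocallyOfFiniteType X.hom] [QuasiCompact X.hom] (f : X ⟶ G)

theorem qc_left_of_group {Y : Over (Spec (CommRingCat.of k))} [QuasiCompact Y.hom] (h : Y ⟶ G) :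
    QuasiCompact h.left := by
  haveI : IsSeparated G.hom := ClosedRep.isSeparated_of_field k G
  haveI : QuasiCompact (h.left ≫ G.hom) := by rw [Over.w]; infer_instance
  exact QuasiCompact.of_comp h.left G.hom

theorem lft_left {Y Z : Over (Spec (CommRingCat.of k))} [LocallyOfFiniteType Y.hom] (h : Y ⟶ Z) :
    LocallyOfFiniteType h.left := by
  haveI : LocallyOfFiniteType (h.left ≫ Z.hom) := by rw [Over.w]; infer_instance
  exact locallyOfFiniteType_of_comp h.left Z.hom

theorem isLocallyConstructible_range_word (l : List Bool) :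
    Topology.IsLocallyConstructible (Set.range (word f l).left) ∧
    Topology.IsLocallyConstructible (Set.range (word f l ▷ ptL k L).left) := by
  haveI := qc_src X l
  haveI := lft_src X l
  haveI := qc_left_of_group (word f l)
  haveI := lft_left (word f l)
  haveI := isLocallyNoetherian_ptL (k := k) (L := L) (Y := G)
  haveI : IsLocallyNoetherian G.left := LocallyOfFiniteType.isLocallyNoetherian G.hom
  refine ⟨?_, ?_⟩
  · rw [← Set.image_univ]
    exact (word f l).left.isLocallyConstructible_image .univ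
  · haveI : QuasiCompact (snd (src X l) (ptL k L)).left :=
      inferInstanceAs (QuasiCompact (pullback.snd (src X l).hom (ptL k L).hom))
    haveI : IsSeparated G.hom := ClosedRep.isSeparated_of_field k G
    haveI : IsSeparated (snd G (ptL k L)).left :=
      inferInstanceAs (IsSeparated (pullback.snd G.hom (ptL k L).hom))
    have e : (word f l ▷ ptL k L).left ≫ (snd G (ptL k L)).left = (snd (src X l) (ptL k L)).left := by
      rw [← Over.comp_left, whiskerRight_snd]
    haveI : QuasiCompact ((word f l ▷ ptL k L).left ≫ (snd G (ptL k L)).left) := by rw [e]; infer_instance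
    haveI : QuasiCompact (word f l ▷ ptL k L).left :=
      QuasiCompact.of_comp _ (snd G (ptL k L)).left
    haveI : LocallyOfFiniteType ((word f l ▷ ptL k L).left ≫ (snd G (ptL k L)).left) := by
      rw [e]; exact lft_snd_ptL
    haveI : LocallyOfFiniteType (word f l ▷ ptL k L).left :=
      locallyOfFiniteType_of_comp _ (snd G (ptL k L)).left
    rw [← Set.image_univ]
    exact (word f l ▷ ptL k L).left.isLocallyConstructible_image .univ

/-- One word takes every value in the generated group. -/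
theorem exists_word_eq [GeometricallyReduced X.hom] (hd : JointlyDense (word f))
    (hcomp : ∀ V : Set (X ⊗ ptL k L).left, IsClopen V → V.Nonempty → ∃ a : ptL k L ⟶ X, lpt a ∈ V ∧ a ≫ f = 1) :
    (∃ m : List Bool, ∀ a : ptL k L ⟶ G, ∃ c : ptL k L ⟶ src X m, c ≫ word f m = a) ∧
      IsPreirreducible (Set.univ : Set (G ⊗ ptL k L).left) := by
  haveI := jacobson_ptL (k := k) (L := L) (Y := X)
  haveI := jacobson_ptL (k := k) (L := L) (Y := G)
  haveI hnX := isLocallyNoetherian_ptL (k := k) (L := L) (Y := X)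
  haveI : CompactSpace (X ⊗ ptL k L).left :=
    QuasiCompact.compactSpace_of_compactSpace (Y := Spec (CommRingCat.of L))
      (pullback.snd X.hom (ptL k L).hom)
  haveI : AlgebraicGeometry.IsNoetherian (X ⊗ ptL k L).left := {}
  let A : irreducibleComponents (X ⊗ ptL k L).left → Set (ptL k L ⟶ G) := fun Z =>
    (fun a => a ≫ f) '' {a | lpt a ∈ (Z : Set _)}
  let S : irreducibleComponents (X ⊗ ptL k L).left → Set (ptL k L ⟶ G) := fun Z => (A Z)⁻¹ * A Z
  have hne : ∀ Z : irreducibleComponents (X ⊗ ptL k L).left, ∃ a, lpt a ∈ (Z : Set (X ⊗ ptL k L).left) := fun Z => by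
    obtain ⟨w, hw, hwc⟩ := nonempty_inter_closedPoints Z.2.1.nonempty
      (isClosed_of_mem_irreducibleComponents _ Z.2).isLocallyClosed
    obtain ⟨a, rfl⟩ := exists_lpt hwc
    exact ⟨a, hw⟩
  have hA : ∀ Z, IsPreirreducible (lpt '' A Z) := fun Z => by
    have e : lpt '' A Z = (f ▷ ptL k L).left '' (lpt '' {a | lpt a ∈ (Z : Set (X ⊗ ptL k L).left)}) := by
      rw [Set.image_image, Set.image_image]
      simp only [map_lpt]
    rw [e]
    refine IsPreirreducible.image ?_ _ (f ▷ ptL k L).left.continuous.continuousOn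
    rw [← isPreirreducible_iff_closure, closure_lpt (isClosed_of_mem_irreducibleComponents _ Z.2)]
    exact Z.2.1.2
  have h1 : ∀ Z, (1 : ptL k L ⟶ G) ∈ S Z := fun Z => by
    obtain ⟨a, ha⟩ := hne Z
    exact ⟨(a ≫ f)⁻¹, Set.inv_mem_inv.2 ⟨a, ha, rfl⟩, a ≫ f, ⟨a, ha, rfl⟩, _root_.inv_mul_cancel _⟩
  have hS : ∀ Z, IsPreirreducible (lpt '' S Z) := fun Z => isPreirreducible_mul (isPreirreducible_inv (hA Z)) (hA Z)
  let D : Set (ptL k L ⟶ G) := ⋃ l : List (irreducibleComponents (X ⊗ ptL k L).left), (l.map S).prod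
  have hD1 : (1 : ptL k L ⟶ G) ∈ D := Set.mem_iUnion.2 ⟨[], by simp⟩
  have hDm : ∀ {x y}, x ∈ D → y ∈ D → x * y ∈ D := fun {x y} hx hy => by
    obtain ⟨l, hl⟩ := Set.mem_iUnion.1 hx
    obtain ⟨l', hl'⟩ := Set.mem_iUnion.1 hy
    exact Set.mem_iUnion.2 ⟨l ++ l', by rw [List.map_append, List.prod_append]; exact Set.mul_mem_mul hl hl'⟩
  have hDinv : ∀ l : List (irreducibleComponents (X ⊗ ptL k L).left), ((l.map S).prod)⁻¹ = (l.reverse.map S).prod := fun l => by
    induction l with
    | nil => simp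
    | cons Z l ih =>
      rw [List.map_cons, List.prod_cons, _root_.mul_inv_rev, ih, List.reverse_cons, List.map_append,
        List.prod_append, List.map_singleton, List.prod_singleton]
      simp [S]
  have hDi : ∀ {x}, x ∈ D → x⁻¹ ∈ D := fun {x} hx => by
    obtain ⟨l, hl⟩ := Set.mem_iUnion.1 hx
    exact Set.mem_iUnion.2 ⟨l.reverse, by rw [← hDinv]; exact Set.inv_mem_inv.2 hl⟩
  have hstep : ∀ Z : irreducibleComponents (X ⊗ ptL k L).left, ∀ {a b}, lpt a ∈ (Z : Set (X ⊗ ptL k L).left) →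
      lpt b ∈ (Z : Set (X ⊗ ptL k L).left) → b ≫ f ∈ D → a ≫ f ∈ D := fun Z {a b} ha hb hbD => by
    have : (b ≫ f)⁻¹ * (a ≫ f) ∈ D := Set.mem_iUnion.2 ⟨[Z], by
      rw [List.map_singleton, List.prod_singleton]
      exact Set.mul_mem_mul (Set.inv_mem_inv.2 ⟨b, hb, rfl⟩) ⟨a, ha, rfl⟩⟩
    simpa using hDm hbD this
  have hfD : ∀ a : ptL k L ⟶ X, a ≫ f ∈ D := by
    by_contra hbad
    push Not at hbad
    obtain ⟨a₀, ha₀⟩ := hbad
    let Bad : Set (Set (X ⊗ ptL k L).left) :=
      {Z | ∃ h : Z ∈ irreducibleComponents (X ⊗ ptL k L).left, ∀ a, lpt a ∈ Z → a ≫ f ∉ D}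
    let Good : Set (Set (X ⊗ ptL k L).left) :=
      {Z | ∃ h : Z ∈ irreducibleComponents (X ⊗ ptL k L).left, ∃ a, lpt a ∈ Z ∧ a ≫ f ∈ D}
    have hfinB : Bad.Finite := TopologicalSpace.NoetherianSpace.finite_irreducibleComponents.subset fun Z hZ => hZ.1
    have hfinG : Good.Finite := TopologicalSpace.NoetherianSpace.finite_irreducibleComponents.subset fun Z hZ => hZ.1
    have hcB : IsClosed (⋃₀ Bad) := hfinB.isClosed_biUnion (f := id)
      (fun Z hZ => isClosed_of_mem_irreducibleComponents _ hZ.1) |> (by rw [Set.sUnion_eq_biUnion]; exact ·)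
    have hcG : IsClosed (⋃₀ Good) := hfinG.isClosed_biUnion (f := id)
      (fun Z hZ => isClosed_of_mem_irreducibleComponents _ hZ.1) |> (by rw [Set.sUnion_eq_biUnion]; exact ·)
    have hcover : ⋃₀ Bad ∪ ⋃₀ Good = Set.univ := by
      refine Set.eq_univ_of_forall fun x => ?_
      by_cases h : ∃ a, lpt a ∈ irreducibleComponent x ∧ a ≫ f ∈ D
      · exact Or.inr ⟨_, ⟨irreducibleComponent_mem_irreducibleComponents x, h⟩, mem_irreducibleComponent⟩
      · push Not at h
        exact Or.inl ⟨_, ⟨irreducibleComponent_mem_irreducibleComponents x, h⟩, mem_irreducibleComponent⟩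
    have hdisj : ⋃₀ Bad ∩ ⋃₀ Good = ∅ := by
      by_contra hne'
      obtain ⟨w, hw, hwc⟩ := nonempty_inter_closedPoints (Set.nonempty_iff_ne_empty.2 hne')
        (hcB.inter hcG).isLocallyClosed
      obtain ⟨a, rfl⟩ := exists_lpt hwc
      obtain ⟨⟨Z, hZ, haZ⟩, ⟨Z', ⟨hZ', b, hb, hbD⟩, haZ'⟩⟩ := hw
      exact hZ.2 a haZ (hstep ⟨Z', hZ'⟩ haZ' hb hbD)
    have hclop : IsClopen (⋃₀ Bad) := ⟨hcB, by
      rw [show ⋃₀ Bad = (⋃₀ Good)ᶜ from IsCompl.eq_compl ⟨Set.disjoint_iff_inter_eq_empty.2 hdisj,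
        codisjoint_iff.2 hcover⟩]
      exact hcG.isOpen_compl⟩
    have hnB : (⋃₀ Bad).Nonempty := by
      refine ⟨lpt a₀, ?_⟩
      rcases hcover.ge (Set.mem_univ (lpt a₀)) with h | h
      · exact h
      · obtain ⟨Z', ⟨hZ', b, hb, hbD⟩, haZ'⟩ := h
        exact absurd (hstep ⟨Z', hZ'⟩ haZ' hb hbD) ha₀
    obtain ⟨a, ⟨Z, hZ, haZ⟩, ha1⟩ := hcomp _ hclop hnB
    exact hZ.2 a haZ (ha1 ▸ hD1)
  have hwD : ∀ (m : List Bool) (a : ptL k L ⟶ src X m), a ≫ word f m ∈ D := fun m => by
    induction m with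
    | nil => intro a; rw [comp_word_nil]; exact hD1
    | cons b m ih =>
      intro a
      rw [comp_word_cons, comp_letter]
      refine hDm ?_ (ih _)
      cases b
      · exact hDi (hfD _)
      · exact hfD _
  obtain ⟨l, hl⟩ := exists_dense_product S h1 hS
  let C := closure (lpt '' (l.map S).prod)
  have hC : C = Set.univ := by
    let J := Scheme.IdealSheafData.vanishingIdeal (⟨C, isClosed_closure⟩ : TopologicalSpace.Closeds (G ⊗ ptL k L).left)
    let R : Over (Spec (CommRingCat.of k)) := Over.mk (J.subschemeι ≫ (G ⊗ ptL k L).hom)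
    let r : R ⟶ G ⊗ ptL k L := Over.homMk J.subschemeι rfl
    haveI : IsClosedImmersion r.left := inferInstanceAs (IsClosedImmersion J.subschemeι)
    have hrange : Set.range r.left = C := by
      show Set.range J.subschemeι = C
      rw [Scheme.IdealSheafData.range_subschemeι]
      rfl
    obtain ⟨b, hb⟩ := hd.factor (T := ptL k L) (𝟙 (G ⊗ ptL k L)) r fun m => by
      haveI := geometricallyReduced_src X m
      haveI := lft_src X m
      haveI := jacobson_ptL (k := k) (L := L) (Y := src X m)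
      haveI : IsReduced (ptL k L).left := inferInstanceAs (IsReduced (Spec (CommRingCat.of L)))
      haveI : IsReduced (src X m ⊗ ptL k L).left := GeomRedPull.isReduced_pullback (src X m).hom (ptL k L).hom
      have hsub : Set.range (word f m ▷ ptL k L).left ⊆ C := by
        rw [Set.range_subset_iff]
        have hcl : IsClosed ((word f m ▷ ptL k L).left ⁻¹' C) :=
          isClosed_closure.preimage (word f m ▷ ptL k L).left.continuous
        intro y
        show y ∈ (word f m ▷ ptL k L).left ⁻¹' C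
        have : (word f m ▷ ptL k L).left ⁻¹' C = Set.univ := by
          rw [← Set.univ_subset_iff, ← closure_lpt (k := k) (L := L) (Y := src X m) isClosed_univ]
          refine closure_minimal ?_ hcl
          rintro _ ⟨a, -, rfl⟩
          rw [Set.mem_preimage, map_lpt]
          obtain ⟨l', hl'⟩ := Set.mem_iUnion.1 (hwD m a)
          exact hl l' ⟨_, hl', rfl⟩
        rw [this]; trivial
      obtain ⟨g, hg⟩ := RedSepLib.exists_lift_of_isReduced (word f m ▷ ptL k L).left r.left (hrange ▸ hsub)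
      refine ⟨Over.homMk g (by rw [← Over.w r, reassoc_of% hg, Over.w]), ?_⟩
      rw [Category.comp_id]
      exact Over.OverMorphism.ext hg.symm
    refine Set.eq_univ_of_forall fun z => ?_
    rw [← hrange]
    exact ⟨b.left z, by rw [← Scheme.Hom.comp_apply, ← Over.comp_left, ← hb]; rfl⟩
  have hword : ∀ l' : List (irreducibleComponents (X ⊗ ptL k L).left), ∃ m : List Bool,
      ∀ x ∈ (l'.map S).prod, ∃ c : ptL k L ⟶ src X m, c ≫ word f m = x := fun l' => by
    induction l' with
    | nil => exact ⟨[], fun x hx => ⟨toUnit _, by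
        rw [List.map_nil, List.prod_nil, Set.mem_one] at hx
        rw [comp_word_nil, hx]⟩⟩
    | cons Z l' ih =>
      obtain ⟨m, hm⟩ := ih
      refine ⟨([false] ++ [true]) ++ m, fun x hx => ?_⟩
      rw [List.map_cons, List.prod_cons] at hx
      obtain ⟨s, ⟨u, hu, v, hv, rfl⟩, y, hy, rfl⟩ := hx
      rw [Set.mem_inv] at hu
      obtain ⟨a, -, ha⟩ := hu
      obtain ⟨b, -, rfl⟩ := hv
      obtain ⟨c₁, hc₁⟩ := exists_singleton f false a
      obtain ⟨c₂, hc₂⟩ := exists_singleton f true b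
      obtain ⟨c₃, hc₃⟩ := hm y hy
      obtain ⟨c₄, hc₄⟩ := exists_mul f [false] [true] c₁ c₂
      obtain ⟨c₅, hc₅⟩ := exists_mul f ([false] ++ [true]) m c₄ c₃
      refine ⟨c₅, ?_⟩
      rw [hc₅, hc₄, hc₁, hc₂, hc₃, comp_letter, comp_letter]
      simp [ha]
  obtain ⟨m, hm⟩ := hword l
  have hWC := (isLocallyConstructible_range_word (L := L) f m).2
  haveI := lft_src X m
  have hWd : closure (Set.range (word f m ▷ ptL k L).left) = Set.univ := by
    rw [← Set.univ_subset_iff, ← hC]
    refine closure_mono ?_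
    rintro _ ⟨x, hx, rfl⟩
    obtain ⟨c, rfl⟩ := hm x hx
    exact ⟨lpt c, map_lpt _ _⟩
  have hWne : (Set.univ ∩ Set.range (word f m ▷ ptL k L).left).Nonempty := by
    rw [Set.univ_inter]
    exact closure_nonempty_iff.1 (by rw [hWd]; exact ⟨lpt (1 : ptL k L ⟶ G), trivial⟩)
  obtain ⟨U, -, hU, ⟨u, hu, -⟩, hUW⟩ := GrpField.exists_isOpen_inter_closure_subset hWC isOpen_univ hWne
  rw [hWd, Set.univ_inter] at hUW
  have hirr : IsPreirreducible (Set.univ : Set (G ⊗ ptL k L).left) := by
    rw [← hC]; exact (isPreirreducible_prod S hS l).closure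
  refine ⟨⟨m ++ m, fun a => ?_⟩, hirr⟩
  let e := GrpField.homeo (GrpField.trI a)
  obtain ⟨w, -, hw1, hw2⟩ := hirr U (e ⁻¹' U) hU (hU.preimage e.continuous) ⟨u, trivial, hu⟩
    ⟨e.symm u, trivial, by rw [Set.mem_preimage, e.apply_symm_apply]; exact hu⟩
  obtain ⟨v, hv, hvc⟩ := nonempty_inter_closedPoints (Z := U ∩ e ⁻¹' U) ⟨w, hw1, hw2⟩
    (hU.inter (hU.preimage e.continuous)).isLocallyClosed
  obtain ⟨b, rfl⟩ := exists_lpt hvc
  obtain ⟨hb1, hb2⟩ := hv
  rw [Set.mem_preimage, trI_lpt] at hb2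
  obtain ⟨c₁, hc₁⟩ := exists_lift_lpt (word f m) b (hUW hb1)
  obtain ⟨c₂, hc₂⟩ := exists_lift_lpt (word f m) (b⁻¹ * a) (hUW hb2)
  obtain ⟨c, hc⟩ := exists_mul f m m c₁ c₂
  exact ⟨c, by rw [hc, hc₁, hc₂, _root_.mul_inv_cancel_left]⟩

omit [LocallyOfFiniteType X.hom] [QuasiCompact X.hom] in
/-- A locally constructible set containing every closed point is everything. -/
theorem eq_univ_of_closedPoints {Y : Type u} [TopologicalSpace Y] [JacobsonSpace Y] {E : Set Y}
    (hE : Topology.IsLocallyConstructible E) (h : closedPoints Y ⊆ E) : E = Set.univ := by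
  by_contra hne
  have hne' : (Set.univ ∩ Eᶜ).Nonempty := by
    rw [Set.univ_inter]; exact Set.nonempty_compl.2 hne
  obtain ⟨W, -, hW, ⟨w, hw, hwE⟩, hWE⟩ := GrpField.exists_isOpen_inter_closure_subset (A := Eᶜ) (fun x => by
    obtain ⟨U, hx, hUo, hc⟩ := hE x
    exact ⟨U, hx, hUo, hc.compl⟩) isOpen_univ hne'
  obtain ⟨v, ⟨hv1, hv2⟩, hvc⟩ := nonempty_inter_closedPoints (Z := closure Eᶜ ∩ W)
    ⟨w, subset_closure hwE, hw⟩ (isClosed_closure.isLocallyClosed.inter hW.isLocallyClosed)
  exact hWE ⟨hv1, hv2⟩ (h hvc)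

/-- One word is surjective. -/
theorem exists_word_surjective [GeometricallyReduced X.hom] (hd : JointlyDense (word f))
    (hcomp : ∀ V : Set (X ⊗ ptL k L).left, IsClopen V → V.Nonempty → ∃ a : ptL k L ⟶ X, lpt a ∈ V ∧ a ≫ f = 1) :
    ∃ m : List Bool, Set.range (word f m).left = Set.univ := by
  obtain ⟨m, hm⟩ := (exists_word_eq f hd hcomp).1
  haveI : JacobsonSpace G.left := LocallyOfFiniteType.jacobsonSpace G.hom
  refine ⟨m, eq_univ_of_closedPoints (isLocallyConstructible_range_word (L := L) f m).1 fun w hw => ?_⟩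
  obtain ⟨p, hp⟩ := GrpAct.exists_point (K := L) w hw
  obtain ⟨c, hc⟩ := hm p
  exact ⟨c.left (IsLocalRing.closedPoint L), by
    rw [← Scheme.Hom.comp_apply, ← Over.comp_left, hc]; exact hp _⟩

omit [QuasiCompact X.hom] in
/-- A point over the unit gives an `L`-point over the unit. -/
theorem exists_lpt_unit (he : ∃ x : X.left, f.left x ∈ Set.range η[G].left) :
    ∃ a : ptL k L ⟶ X, a ≫ f = 1 := by
  haveI : IsSeparated G.hom := ClosedRep.isSeparated_of_field k G
  haveI : IsClosedImmersion η[G].left := by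
    haveI : IsClosedImmersion (η[G].left ≫ G.hom) := by
      rw [Over.w]; exact inferInstanceAs (IsClosedImmersion (𝟙 _))
    exact IsClosedImmersion.of_comp η[G].left G.hom
  haveI := jacobson_ptL (k := k) (L := L) (Y := X)
  have hcl : IsClosed ((fst X (ptL k L) ≫ f).left ⁻¹' Set.range η[G].left) :=
    η[G].left.isClosedEmbedding.isClosed_range.preimage (fst X (ptL k L) ≫ f).left.continuous
  obtain ⟨x, hx⟩ := he
  obtain ⟨y, hy⟩ := GrpField.surjective_fst (G := X) (T := ptL k L) x
  obtain ⟨v, hv, hvc⟩ := nonempty_inter_closedPoints (Z := (fst X (ptL k L) ≫ f).left ⁻¹' Set.range η[G].left)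
    ⟨y, by rw [Set.mem_preimage, Over.comp_left, Scheme.Hom.comp_apply, hy]; exact hx⟩ hcl.isLocallyClosed
  obtain ⟨a, rfl⟩ := exists_lpt hvc
  refine ⟨a, ?_⟩
  have hv' : (a ≫ f).left (IsLocalRing.closedPoint L) ∈ Set.range η[G].left := by
    rw [Set.mem_preimage, lpt, ← Scheme.Hom.comp_apply, ← Over.comp_left, lift_fst_assoc] at hv
    exact hv
  haveI : IsReduced (ptL k L).left := inferInstanceAs (IsReduced (Spec (CommRingCat.of L)))
  obtain ⟨g, hg⟩ := RedSepLib.exists_lift_of_isReduced (a ≫ f).left η[G].left (by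
    rintro _ ⟨t, rfl⟩
    haveI : Subsingleton (ptL k L).left := inferInstanceAs (Subsingleton (PrimeSpectrum L))
    rw [Subsingleton.elim t (IsLocalRing.closedPoint L)]
    exact hv')
  let g' : ptL k L ⟶ 𝟙_ _ := Over.homMk g (by
    rw [← Over.w η[G], reassoc_of% hg, Over.w])
  rw [Hom.one_def, ← toUnit_unique g' (toUnit _)]
  exact Over.OverMorphism.ext hg.symm

end Groth.Agent.SubGen
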