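import Mathlib

/-!
# Derived and lower central series through iterated commutators

`b = true`: derived series; `b = false`: lower central series.
-/

universe u

namespace Groth.Agent.SubGen

open scoped commutatorElement Pointwise

variable (b : Bool) (H : Type u) [Group H]

/-- The iterated commutators of depth `n`. -/
def tree : ℕ → Set H
  | 0 => Set.univ
  | n + 1 => {g | ∃ x ∈ tree n, ∃ y, (b = true → y ∈ tree n) ∧ ⁅x, y⁆ = g}

/-- The series. -/
def ser : ℕ → Subgroup H
  | 0 => ⊤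
  | n + 1 => ⁅ser n, if b then ser n else ⊤⁆

variable {H}

theorem ser_true : ∀ n, ser true H n = derivedSeries H n
  | 0 => rfl
  | n + 1 => by rw [derivedSeries_succ, ← ser_true n]; rfl

theorem ser_false : ∀ n, ser false H n = Subgroup.lowerCentralSeries (⊤ : Subgroup H) n
  | 0 => rfl
  | n + 1 => by rw [Subgroup.lowerCentralSeries_succ, ← ser_false n]; rfl

/-- Conjugation invariance of a set. -/
def ConjInv (S : Set H) : Prop := ∀ g : H, ∀ x ∈ S, g * x * g⁻¹ ∈ S

theorem conj_commutator (g x y : H) : g * ⁅x, y⁆ * g⁻¹ = ⁅g * x * g⁻¹, g * y * g⁻¹⁆ := by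
  simp only [commutatorElement_def]; group

theorem conjInv_tree : ∀ n, ConjInv (tree b H n)
  | 0 => fun _ _ _ => trivial
  | n + 1 => by
    rintro g _ ⟨x, hx, y, hy, rfl⟩
    exact ⟨_, conjInv_tree n g x hx, g * y * g⁻¹, fun h => conjInv_tree n g y (hy h), (conj_commutator g x y).symm⟩

theorem tree_subset_ser (n : ℕ) : tree b H n ⊆ ser b H n := by
  induction n with
  | zero => exact fun _ _ => trivial
  | succ n ih =>
    rintro _ ⟨x, hx, y, hy, rfl⟩
    refine Subgroup.commutator_mem_commutator (ih hx) ?_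
    cases b
    · trivial
    · exact ih (hy rfl)

/-- Products of at most `N` letters. -/
def bset (S : Set H) : ℕ → Set H
  | 0 => {1}
  | N + 1 => (S ∪ S⁻¹ ∪ {1}) * bset S N

theorem one_mem_bset (S : Set H) : ∀ N, (1 : H) ∈ bset S N
  | 0 => rfl
  | N + 1 => ⟨1, Or.inr rfl, 1, one_mem_bset S N, one_mul 1⟩

theorem bset_succ_subset (S : Set H) (N : ℕ) : bset S N ⊆ bset S (N + 1) :=
  fun x hx => ⟨1, Or.inr rfl, x, hx, one_mul x⟩

theorem bset_mono (S : Set H) {N M : ℕ} (h : N ≤ M) : bset S N ⊆ bset S M := by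
  induction h with
  | refl => exact subset_rfl
  | step _ ih => exact ih.trans (bset_succ_subset S _)

theorem mul_mem_bset {S : Set H} : ∀ {N M : ℕ} {x y : H}, x ∈ bset S N → y ∈ bset S M → x * y ∈ bset S (N + M)
  | 0, M, x, y, hx, hy => by
    rw [show x = 1 from hx, one_mul, zero_add]; exact hy
  | N + 1, M, _, y, ⟨l, hl, x, hx, rfl⟩, hy => by
    rw [Nat.succ_add]
    exact ⟨l, hl, x * y, mul_mem_bset hx hy, (mul_assoc l x y).symm⟩

theorem mem_bset_one {S : Set H} {x : H} (hx : x ∈ S) : x ∈ bset S 1 :=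
  ⟨x, Or.inl (Or.inl hx), 1, rfl, mul_one x⟩

theorem inv_mem_bset {S : Set H} : ∀ {N : ℕ} {x : H}, x ∈ bset S N → x⁻¹ ∈ bset S N
  | 0, x, hx => by rw [show x = 1 from hx, inv_one]; rfl
  | N + 1, _, ⟨l, hl, x, hx, rfl⟩ => by
    show (l * x)⁻¹ ∈ _
    rw [mul_inv_rev]
    refine mul_mem_bset (inv_mem_bset hx) (M := 1) ⟨l⁻¹, ?_, 1, rfl, mul_one _⟩
    rcases hl with (hl | hl) | hl
    · exact Or.inl (Or.inr (Set.inv_mem_inv.2 hl))
    · exact Or.inl (Or.inl hl)
    · exact Or.inr (by rw [Set.mem_singleton_iff] at hl ⊢; rw [hl, inv_one])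

theorem bset_subset_closure (S : Set H) : ∀ N, bset S N ⊆ Subgroup.closure S
  | 0 => fun x hx => by rw [show x = 1 from hx]; exact one_mem _
  | N + 1 => by
    rintro _ ⟨l, hl, x, hx, rfl⟩
    refine mul_mem ?_ (bset_subset_closure S N hx)
    rcases hl with (hl | hl) | hl
    · exact Subgroup.subset_closure hl
    · simpa using inv_mem (Subgroup.subset_closure (Set.mem_inv.1 hl))
    · rw [show l = 1 from hl]; exact one_mem _

theorem conjInv_bset {S : Set H} (hS : ConjInv S) : ∀ N, ConjInv (bset S N)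
  | 0 => fun g x hx => by rw [show x = 1 from hx, mul_one, mul_inv_cancel]; rfl
  | N + 1 => by
    rintro g _ ⟨l, hl, x, hx, rfl⟩
    refine ⟨g * l * g⁻¹, ?_, g * x * g⁻¹, conjInv_bset hS N g x hx, by group⟩
    rcases hl with (hl | hl) | hl
    · exact Or.inl (Or.inl (hS g l hl))
    · refine Or.inl (Or.inr (Set.mem_inv.2 ?_))
      rw [show (g * l * g⁻¹)⁻¹ = g * l⁻¹ * g⁻¹ by group]
      exact hS g _ (Set.mem_inv.1 hl)
    · rw [show l = 1 from hl, mul_one, mul_inv_cancel]; exact Or.inr rfl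

theorem bset_bind {S T : Set H} {M : ℕ} (h : S ⊆ bset T M) : ∀ N, bset S N ⊆ bset T (N * M)
  | 0 => fun x hx => by rw [show x = 1 from hx]; exact one_mem_bset _ _
  | N + 1 => by
    rintro _ ⟨l, hl, x, hx, rfl⟩
    rw [Nat.succ_mul, Nat.add_comm]
    refine mul_mem_bset ?_ (bset_bind h N hx)
    rcases hl with (hl | hl) | hl
    · exact h hl
    · simpa using inv_mem_bset (h (Set.mem_inv.1 hl))
    · rw [show l = 1 from hl]; exact one_mem_bset _ _

/-- Commutators of short products are short products of commutators. -/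
theorem commutator_mem_bset {X Y T : Set H} (hT : ConjInv T) (hXY : ∀ x ∈ X, ∀ y ∈ Y, ⁅x, y⁆ ∈ T) :
    ∀ {N M : ℕ} {a c : H}, a ∈ bset X N → c ∈ bset Y M → ⁅a, c⁆ ∈ bset T (N * M) := by
  have h1 : ∀ {M : ℕ} {l c : H}, l ∈ X ∪ X⁻¹ ∪ {1} → c ∈ bset Y M → ⁅l, c⁆ ∈ bset T M := by
    intro M l c hl hc
    induction M generalizing c with
    | zero => rw [show c = 1 from hc, commutatorElement_one_right]; rfl
    | succ M ih =>
      obtain ⟨m, hm, c, hc', rfl⟩ := hc
      rw [show ⁅l, m * c⁆ = ⁅l, m⁆ * (m * ⁅l, c⁆ * m⁻¹) by simp only [commutatorElement_def]; group, Nat.add_comm]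
      refine mul_mem_bset ?_ (conjInv_bset hT M m _ (ih hc'))
      have hl1 : l = 1 ∨ l ∈ X ∨ l⁻¹ ∈ X := by
        rcases hl with (hl | hl) | hl
        · exact Or.inr (Or.inl hl)
        · exact Or.inr (Or.inr (Set.mem_inv.1 hl))
        · exact Or.inl hl
      have hm1 : m = 1 ∨ m ∈ Y ∨ m⁻¹ ∈ Y := by
        rcases hm with (hm | hm) | hm
        · exact Or.inr (Or.inl hm)
        · exact Or.inr (Or.inr (Set.mem_inv.1 hm))
        · exact Or.inl hm
      have key : ∀ x ∈ X, ⁅x, m⁆ ∈ bset T 1 := fun x hx => by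
        rcases hm1 with rfl | hm | hm
        · rw [commutatorElement_one_right]; exact one_mem_bset _ _
        · exact mem_bset_one (hXY x hx m hm)
        · rw [show ⁅x, m⁆ = m * ⁅x, m⁻¹⁆⁻¹ * m⁻¹ by simp only [commutatorElement_def]; group]
          exact conjInv_bset hT 1 m _ (inv_mem_bset (mem_bset_one (hXY x hx _ hm)))
      rcases hl1 with rfl | hl | hl
      · rw [commutatorElement_one_left]; exact one_mem_bset _ _
      · exact key l hl
      · rw [show ⁅l, m⁆ = l * ⁅l⁻¹, m⁆⁻¹ * l⁻¹ by simp only [commutatorElement_def]; group]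
        exact conjInv_bset hT 1 l _ (inv_mem_bset (key _ hl))
  intro N
  induction N with
  | zero => intro M a c ha _; rw [show a = 1 from ha, commutatorElement_one_left]; exact one_mem_bset _ _
  | succ N ih =>
    rintro M _ c ⟨l, hl, a, ha, rfl⟩ hc
    rw [show ⁅l * a, c⁆ = l * ⁅a, c⁆ * l⁻¹ * ⁅l, c⁆ by simp only [commutatorElement_def]; group, Nat.succ_mul]
    exact mul_mem_bset (conjInv_bset hT _ l _ (ih ha hc)) (h1 hl hc)

/-- The series is generated by the trees. -/
theorem ser_eq_closure : ∀ n, ser b H n = Subgroup.closure (tree b H n)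
  | 0 => (Subgroup.closure_univ).symm
  | n + 1 => by
    refine le_antisymm ?_ ((Subgroup.closure_le _).2 (tree_subset_ser b (n + 1)))
    refine Subgroup.commutator_le.2 fun a ha c hc => ?_
    have hmem : ∀ {S : Set H} {z : H}, z ∈ Subgroup.closure S → ∃ N, z ∈ bset S N := by
      intro S z hz
      induction hz using Subgroup.closure_induction with
      | mem z hz => exact ⟨1, mem_bset_one hz⟩
      | one => exact ⟨0, rfl⟩
      | mul x y _ _ hx hy =>
        obtain ⟨N, hN⟩ := hx
        obtain ⟨M, hM⟩ := hy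
        exact ⟨N + M, mul_mem_bset hN hM⟩
      | inv x _ hx =>
        obtain ⟨N, hN⟩ := hx
        exact ⟨N, inv_mem_bset hN⟩
    rw [ser_eq_closure n] at ha hc
    obtain ⟨N, hN⟩ := hmem ha
    obtain ⟨M, hM⟩ : ∃ M, c ∈ bset {y : H | b = true → y ∈ tree b H n} M := hmem (by
      cases b
      · refine Subgroup.subset_closure ?_
        intro h; cases h
      · simpa using hc)
    exact bset_subset_closure _ _ (commutator_mem_bset (conjInv_tree b (n + 1))
      (fun x hx y hy => ⟨x, hx, y, hy, rfl⟩) hN hM)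

theorem ser_eq_bot_iff (n : ℕ) : ser b H n = ⊥ ↔ tree b H n ⊆ {1} := by
  rw [ser_eq_closure, Subgroup.closure_eq_bot_iff]

theorem ser_succ_le (n : ℕ) : ser b H (n + 1) ≤ ser b H n := by
  induction n with
  | zero => exact le_top
  | succ n ih => exact Subgroup.commutator_mono ih (by cases b <;> simp [ih])

theorem ser_antitone : Antitone (ser b H) := antitone_nat_of_succ_le (ser_succ_le b)

/-- A nontrivial stable term forbids termination. -/
theorem ser_ne_bot {n : ℕ} (N : ℕ) (h : tree b H n ⊆ bset (tree b H (n + 1)) N) (hne : ¬ tree b H n ⊆ {1}) (m : ℕ) :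
    ser b H m ≠ ⊥ := by
  have h0 : ser b H n ≤ ser b H (n + 1) := by
    rw [ser_eq_closure b n, ser_eq_closure b (n + 1), Subgroup.closure_le]
    exact h.trans (bset_subset_closure _ N)
  have hst : ∀ d, ser b H n ≤ ser b H (n + d) := fun d => by
    induction d with
    | zero => exact le_rfl
    | succ d ih => exact h0.trans (Subgroup.commutator_mono ih (by cases b <;> simp [ih]))
  intro hm
  refine hne ((ser_eq_bot_iff b n).1 (le_bot_iff.1 ?_))
  exact ((hst m).trans (ser_antitone b (Nat.le_add_left m n))).trans hm.le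

theorem map_tree {K : Type u} [Group K] (φ : H ≃* K) : ∀ n, φ '' tree b H n = tree b K n
  | 0 => by simp [tree]
  | n + 1 => by
    ext z
    constructor
    · rintro ⟨_, ⟨x, hx, y, hy, rfl⟩, rfl⟩
      exact ⟨φ x, (map_tree φ n).le ⟨x, hx, rfl⟩, φ y, fun h => (map_tree φ n).le ⟨y, hy h, rfl⟩,
        (map_commutatorElement φ x y).symm⟩
    · rintro ⟨x, hx, y, hy, rfl⟩
      obtain ⟨x, hx', rfl⟩ := (map_tree φ n).ge hx
      refine ⟨⁅x, φ.symm y⁆, ⟨x, hx', φ.symm y, fun h => ?_, rfl⟩, by rw [map_commutatorElement, φ.apply_symm_apply]⟩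
      obtain ⟨y', hy', rfl⟩ := (map_tree φ n).ge (hy h)
      rwa [φ.symm_apply_apply]

theorem map_bset {K : Type u} [Group K] (φ : H ≃* K) (S : Set H) : ∀ N, φ '' bset S N = bset (φ '' S) N
  | 0 => by simp [bset]
  | N + 1 => by
    rw [bset, bset, Set.image_mul, map_bset φ S N, Set.image_union, Set.image_union, Set.image_inv, Set.image_singleton, map_one]

end Groth.Agent.SubGen
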