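import Groth.Prelude.Def_AlgGrp
import Groth.Agent.SubGen.AlgClosed
import Groth.Agent.SubGen.Baer
import Groth.Agent.SubGen.Series

/-!
# Commutator subgroups of normal subgroups of finite type are boundedly generated
-/

universe u

open CategoryTheory CategoryTheory.Limits MonoidalCategory CartesianMonoidalCategory MonObj GrpObj AlgebraicGeometry

set_option backward.isDefEq.respectTransparency false

noncomputable section

namespace Groth.Agent.SubGen

open scoped commutatorElement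

variable {k : Type u} [Field k]

/-- Post-composition with a homomorphism. -/
noncomputable def postHom {G A : Over (Spec (CommRingCat.of k))} [GrpObj G] [GrpObj A] (a : A ⟶ G) [IsMonHom a] :
    (𝟙_ (Over (Spec (CommRingCat.of k))) ⟶ A) →* (𝟙_ (Over (Spec (CommRingCat.of k))) ⟶ G) where
  toFun x := x ≫ a
  map_one' := MonObj.one_comp a
  map_mul' x y := MonObj.mul_comp x y a

theorem postHom_apply {G A : Over (Spec (CommRingCat.of k))} [GrpObj G] [GrpObj A] (a : A ⟶ G) [IsMonHom a]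
    (x : 𝟙_ (Over (Spec (CommRingCat.of k))) ⟶ A) : postHom a x = x ≫ a := rfl

theorem cc_subset {α : Type u} [TopologicalSpace α] [TopologicalSpace.NoetherianSpace α] (S : Set α) :
    IsClosed (⋃ x ∈ S, connectedComponent x) ∧ IsClosed (⋃ x ∈ S, connectedComponent x)ᶜ := by
  have key : ∀ W : Set α, (∀ x ∈ W, connectedComponent x ⊆ W) → IsClosed W := fun W hW => by
    have e : W = ⋃₀ {Z ∈ irreducibleComponents α | Z ⊆ W} := by
      refine Set.Subset.antisymm (fun x hx => ⟨_, ⟨irreducibleComponent_mem_irreducibleComponents x, ?_⟩,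
        mem_irreducibleComponent⟩) (Set.sUnion_subset fun Z hZ => hZ.2)
      exact (irreducibleComponent_subset_connectedComponent).trans (hW x hx)
    rw [e, Set.sUnion_eq_biUnion]
    exact (TopologicalSpace.NoetherianSpace.finite_irreducibleComponents.subset fun Z hZ => hZ.1).isClosed_biUnion
      fun Z hZ => isClosed_of_mem_irreducibleComponents Z hZ.1
  refine ⟨key _ fun x hx => ?_, key _ fun x hx y hy hy' => hx ?_⟩
  · obtain ⟨s, hs, hxs⟩ := Set.mem_iUnion₂.1 hx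
    rw [← connectedComponent_eq hxs]
    exact Set.subset_biUnion_of_mem (u := fun x => connectedComponent x) hs
  · obtain ⟨s, hs, hys⟩ := Set.mem_iUnion₂.1 hy'
    exact Set.mem_iUnion₂.2 ⟨s, hs, by rw [connectedComponent_eq hys, ← connectedComponent_eq hy]; exact mem_connectedComponent⟩


/-- Every element of the commutator subgroup is a product of boundedly many commutators, and the
commutator subgroup is the set of rational points of a closed set. -/
theorem exists_comm_bound [IsAlgClosed k] {G A B : Over (Spec (CommRingCat.of k))} [GrpObj G] [GrpObj A] [GrpObj B]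
    [LocallyOfFiniteType G.hom] (a : A ⟶ G) [IsMonHom a] (b : B ⟶ G) [IsMonHom b]
    [LocallyOfFiniteType A.hom] [LocallyOfFiniteType B.hom] [QuasiCompact A.hom] [QuasiCompact B.hom]
    [GeometricallyReduced A.hom] [GeometricallyReduced B.hom]
    (hAn : AlgGrp.IsNormalHom a) (hBn : AlgGrp.IsNormalHom b) :
    (∃ L : ℕ, ((⁅(postHom a).range, (postHom b).range⁆ : Subgroup _) : Set (𝟙_ (Over (Spec (CommRingCat.of k))) ⟶ G)) ⊆
      bset {g | ∃ x ∈ (postHom a).range, ∃ y ∈ (postHom b).range, ⁅x, y⁆ = g} L) ∧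
    ∃ RS : Set G.left, IsClosed RS ∧
      ∀ z : 𝟙_ (Over (Spec (CommRingCat.of k))) ⟶ G, rpt z ∈ RS ↔ z ∈ ⁅(postHom a).range, (postHom b).range⁆ := by
  classical
  let f : A ⊗ B ⟶ G := (fst A B ≫ a) * (snd A B ≫ b) * (fst A B ≫ a)⁻¹ * (snd A B ≫ b)⁻¹
  have hfpt : ∀ q : 𝟙_ (Over (Spec (CommRingCat.of k))) ⟶ A ⊗ B,
      q ≫ f = ⁅(q ≫ fst A B) ≫ a, (q ≫ snd A B) ≫ b⁆ := fun q => by
    rw [commutatorElement_def]
    simp [f, MonObj.comp_mul, GrpObj.comp_inv]
  have hf1 : ∀ y : 𝟙_ (Over (Spec (CommRingCat.of k))) ⟶ B, lift 1 y ≫ f = 1 := fun y => by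
    rw [hfpt, lift_fst, MonObj.one_comp, commutatorElement_one_left]
  have hf1' : ∀ x : 𝟙_ (Over (Spec (CommRingCat.of k))) ⟶ A, lift x 1 ≫ f = 1 := fun x => by
    rw [hfpt, lift_snd, MonObj.one_comp, commutatorElement_one_right]
  let A' := (postHom a).range
  let B' := (postHom b).range
  let C' := ⁅A', B'⁆
  let CS : Set (𝟙_ (Over (Spec (CommRingCat.of k))) ⟶ G) := {g | ∃ x ∈ A', ∃ y ∈ B', ⁅x, y⁆ = g}
  haveI : LocallyOfFiniteType (A ⊗ B).hom := by
    haveI : LocallyOfFiniteType (pullback.fst A.hom B.hom) := MorphismProperty.pullback_fst _ _ ‹_›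
    exact inferInstanceAs (LocallyOfFiniteType (pullback.fst A.hom B.hom ≫ A.hom))
  haveI : GeometricallyReduced (A ⊗ B).hom := GeomRedPull.geometricallyReduced_pullback A.hom B.hom
  haveI : QuasiCompact (A ⊗ B).hom := by
    haveI : QuasiCompact (pullback.fst A.hom B.hom) := MorphismProperty.pullback_fst _ _ ‹_›
    exact inferInstanceAs (QuasiCompact (pullback.fst A.hom B.hom ≫ A.hom))
  have hCgen : ∀ q : 𝟙_ (Over (Spec (CommRingCat.of k))) ⟶ A ⊗ B, q ≫ f ∈ C' := fun q => by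
    rw [hfpt]
    exact Subgroup.commutator_mem_commutator (H₁ := A') (H₂ := B') ⟨q ≫ fst A B, rfl⟩ ⟨q ≫ snd A B, rfl⟩
  haveI : CompactSpace (A ⊗ B).left :=
    QuasiCompact.compactSpace_of_compactSpace (Y := Spec (CommRingCat.of k)) (A ⊗ B).hom
  haveI : CompactSpace A.left := QuasiCompact.compactSpace_of_compactSpace (Y := Spec (CommRingCat.of k)) A.hom
  haveI : CompactSpace B.left := QuasiCompact.compactSpace_of_compactSpace (Y := Spec (CommRingCat.of k)) B.hom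
  haveI : IsLocallyNoetherian (A ⊗ B).left := LocallyOfFiniteType.isLocallyNoetherian (A ⊗ B).hom
  haveI : IsLocallyNoetherian A.left := LocallyOfFiniteType.isLocallyNoetherian A.hom
  haveI : IsLocallyNoetherian B.left := LocallyOfFiniteType.isLocallyNoetherian B.hom
  haveI : AlgebraicGeometry.IsNoetherian (A ⊗ B).left := {}
  haveI : AlgebraicGeometry.IsNoetherian A.left := {}
  haveI : AlgebraicGeometry.IsNoetherian B.left := {}
  let S₁ : Set (A ⊗ B).left := {w | ∃ q : 𝟙_ (Over (Spec (CommRingCat.of k))) ⟶ A ⊗ B, q ≫ f = 1 ∧ rpt q = w}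
  let Vs : Set (A ⊗ B).left := ⋃ x ∈ S₁, connectedComponent x
  have hVs : IsClosed Vs ∧ IsClosed Vsᶜ := cc_subset S₁
  let V : (A ⊗ B).left.Opens := ⟨Vs, isClosed_compl_iff.1 hVs.2⟩
  let Xv : Over (Spec (CommRingCat.of k)) := Over.mk (V.ι ≫ (A ⊗ B).hom)
  let jv : Xv ⟶ A ⊗ B := Over.homMk V.ι rfl
  haveI : IsOpenImmersion jv.left := inferInstanceAs (IsOpenImmersion V.ι)
  haveI : LocallyOfFiniteType Xv.hom := inferInstanceAs (LocallyOfFiniteType (V.ι ≫ (A ⊗ B).hom))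
  haveI : QuasiCompact Xv.hom := by
    haveI : CompactSpace Xv.left := isCompact_iff_compactSpace.1 (show IsCompact (V : Set (A ⊗ B).left) from hVs.1.isCompact)
    exact (quasiCompact_iff_compactSpace Xv.hom).2 inferInstance
  haveI : IsReduced (A ⊗ B).left :=
    GeometricallyReduced.geometrically_isReduced (f := (A ⊗ B).hom) (K := k) (𝟙 _) (𝟙 _) (A ⊗ B).hom
      (IsPullback.of_horiz_isIso ⟨by rw [Category.id_comp, Category.comp_id]⟩)
  haveI : IsReduced Xv.left := inferInstanceAs (IsReduced V.toScheme)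
  haveI : GeometricallyReduced Xv.hom := Rigid.geometricallyReduced_of_perfect Xv.hom
  obtain ⟨K0, hK0, i0, w0, him, hici, hw0, hd0, ⟨f0, hf0⟩, -⟩ := exists_generated (jv ≫ f)
  haveI := hici
  haveI : Mono i0 := GrpField.SchImg.mono_of_isClosedImmersion i0
  haveI : LocallyOfFiniteType K0.hom := by rw [← Over.w i0]; infer_instance
  have hd0' : JointlyDense (word f0) := by
    have e : word f0 = w0 := funext fun l => by rw [← cancel_mono i0, word_comp, hf0, hw0]
    rw [e]; exact hd0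
  have hlift : ∀ q : 𝟙_ (Over (Spec (CommRingCat.of k))) ⟶ A ⊗ B, rpt q ∈ Vs → ∃ q', q' ≫ jv = q := fun q hq => by
    have hr : Set.range q.left ⊆ Set.range jv.left := by
      rintro _ ⟨t, rfl⟩
      rw [apply_eq_rpt]
      show _ ∈ Set.range V.ι
      rw [Scheme.Opens.range_ι]
      exact hq
    refine ⟨Over.homMk (IsOpenImmersion.lift jv.left q.left hr) ?_, Over.OverMorphism.ext (IsOpenImmersion.lift_fac _ _ _)⟩
    rw [← Over.w jv, IsOpenImmersion.lift_fac_assoc, Over.w]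
  have hjV : ∀ q' : 𝟙_ (Over (Spec (CommRingCat.of k))) ⟶ Xv, rpt (q' ≫ jv) ∈ Vs := fun q' => by
    have h : rpt (q' ≫ jv) ∈ Set.range V.ι := ⟨rpt q', rfl⟩
    rw [Scheme.Opens.range_ι] at h
    exact h
  obtain ⟨m, hm⟩ := exists_word_eq_rat f0 hd0' fun W hW hne => by
    obtain ⟨w, hw⟩ := hne
    have hwV : (jv.left w) ∈ Vs := by
      have h : jv.left w ∈ Set.range V.ι := ⟨w, rfl⟩
      rw [Scheme.Opens.range_ι] at h
      exact h
    obtain ⟨_, ⟨q, hq1, rfl⟩, hwq⟩ := Set.mem_iUnion₂.1 hwV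
    have hclop : IsClopen (jv.left '' W) := by
      refine ⟨?_, jv.left.isOpenEmbedding.isOpenMap _ hW.2⟩
      refine (Topology.IsClosedEmbedding.mk jv.left.isOpenEmbedding.isEmbedding ?_).isClosedMap _ hW.1
      show IsClosed (Set.range V.ι)
      rw [Scheme.Opens.range_ι]; exact hVs.1
    have hsub := hclop.connectedComponent_subset ⟨w, hw, rfl⟩
    rw [← connectedComponent_eq hwq] at hsub
    obtain ⟨q', rfl⟩ := hlift q (Set.mem_iUnion₂.2 ⟨_, ⟨q, hq1, rfl⟩, mem_connectedComponent⟩)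
    refine ⟨q', ?_, ?_⟩
    · obtain ⟨w', hw', e⟩ := hsub mem_connectedComponent
      have e' : w' = rpt q' := jv.left.isOpenEmbedding.injective (e : jv.left w' = jv.left (rpt q'))
      exact e' ▸ hw'
    · rw [← cancel_mono i0, Category.assoc, hf0, ← Category.assoc, hq1, MonObj.one_comp]
  let S0 : Set (𝟙_ (Over (Spec (CommRingCat.of k))) ⟶ G) := {g | ∃ q, rpt q ∈ Vs ∧ q ≫ f = g}
  let D0 := Subgroup.closure S0
  have hK0D : ∀ z : 𝟙_ (Over (Spec (CommRingCat.of k))) ⟶ K0, z ≫ i0 ∈ D0 := fun z => by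
    obtain ⟨c, rfl⟩ := hm z
    rw [Category.assoc, word_comp, hf0]
    obtain ⟨x, hx⟩ := exists_sprod (jv ≫ f) m c
    rw [← hx]
    refine Subgroup.list_prod_mem _ fun g hg => ?_
    obtain ⟨j, rfl⟩ := List.mem_ofFn.1 hg
    have hmem : x j ≫ jv ≫ f ∈ D0 := Subgroup.subset_closure ⟨x j ≫ jv, hjV _, Category.assoc _ _ _⟩
    split_ifs
    · exact hmem
    · exact inv_mem hmem
  have hDK0 : D0 ≤ (postHom i0).range := (Subgroup.closure_le _).2 (by
    rintro _ ⟨q, hq, rfl⟩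
    obtain ⟨q', rfl⟩ := hlift q hq
    refine ⟨q' ≫ f0, ?_⟩
    rw [postHom_apply, Category.assoc, hf0, Category.assoc])
  have hDC : D0 ≤ C' := (Subgroup.closure_le _).2 (by rintro _ ⟨q, -, rfl⟩; exact hCgen q)
  -- conjugation
  have hconjA : ∀ g : 𝟙_ (Over (Spec (CommRingCat.of k))) ⟶ G, ∃ n : A ⟶ A,
      ∀ x : 𝟙_ (Over (Spec (CommRingCat.of k))) ⟶ A, (x ≫ n) ≫ a = g * (x ≫ a) * g⁻¹ := fun g => by
    obtain ⟨n, hn⟩ := hAn A (toUnit A ≫ g) (𝟙 A)
    refine ⟨n, fun x => ?_⟩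
    rw [Category.assoc, ← hn]
    simp only [MonObj.comp_mul, GrpObj.comp_inv, Category.id_comp, comp_toUnit_assoc]
    rw [toUnit_unique (toUnit _) (𝟙 _), Category.id_comp]
  have hconjB : ∀ g : 𝟙_ (Over (Spec (CommRingCat.of k))) ⟶ G, ∃ n : B ⟶ B,
      ∀ x : 𝟙_ (Over (Spec (CommRingCat.of k))) ⟶ B, (x ≫ n) ≫ b = g * (x ≫ b) * g⁻¹ := fun g => by
    obtain ⟨n, hn⟩ := hBn B (toUnit B ≫ g) (𝟙 B)
    refine ⟨n, fun x => ?_⟩
    rw [Category.assoc, ← hn]
    simp only [MonObj.comp_mul, GrpObj.comp_inv, Category.id_comp, comp_toUnit_assoc]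
    rw [toUnit_unique (toUnit _) (𝟙 _), Category.id_comp]
  haveI : A'.Normal := ⟨by
    rintro _ ⟨x, rfl⟩ g
    obtain ⟨n, hn⟩ := hconjA g
    exact ⟨x ≫ n, hn x⟩⟩
  haveI : B'.Normal := ⟨by
    rintro _ ⟨x, rfl⟩ g
    obtain ⟨n, hn⟩ := hconjB g
    exact ⟨x ≫ n, hn x⟩⟩
  haveI : D0.Normal := ⟨fun z hz g => by
    induction hz using Subgroup.closure_induction with
    | mem z hz =>
      obtain ⟨q, hq, rfl⟩ := hz
      obtain ⟨nA, hnA⟩ := hconjA g
      obtain ⟨nB, hnB⟩ := hconjB g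
      let φ : A ⊗ B ⟶ A ⊗ B := lift (fst A B ≫ nA) (snd A B ≫ nB)
      have hφ : ∀ p : 𝟙_ (Over (Spec (CommRingCat.of k))) ⟶ A ⊗ B, (p ≫ φ) ≫ f = g * (p ≫ f) * g⁻¹ := fun p => by
        rw [hfpt, hfpt p]
        simp only [φ, Category.assoc, lift_fst, lift_snd]
        rw [← Category.assoc p (fst A B), ← Category.assoc p (snd A B), ← Category.assoc (p ≫ fst A B) nA,
          ← Category.assoc (p ≫ snd A B) nB, hnA, hnB]
        simp only [commutatorElement_def, Category.assoc]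
        group
      obtain ⟨_, ⟨q₀, hq₀, rfl⟩, hqc⟩ := Set.mem_iUnion₂.1 hq
      refine Subgroup.subset_closure ⟨q ≫ φ, Set.mem_iUnion₂.2 ⟨rpt (q₀ ≫ φ), ⟨q₀ ≫ φ, ?_, rfl⟩, ?_⟩, hφ q⟩
      · rw [hφ, hq₀]; group
      · exact φ.left.continuous.mapsTo_connectedComponent (rpt q₀) hqc
    | one => rw [_root_.mul_one, _root_.mul_inv_cancel]; exact one_mem _
    | mul x y _ _ hx hy => rw [show g * (x * y) * g⁻¹ = g * x * g⁻¹ * (g * y * g⁻¹) by group]; exact mul_mem hx hy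
    | inv x _ hx => rw [show g * x⁻¹ * g⁻¹ = (g * x * g⁻¹)⁻¹ by group]; exact inv_mem hx⟩
  let π := QuotientGroup.mk' D0
  have hπ : ∀ q : 𝟙_ (Over (Spec (CommRingCat.of k))) ⟶ A ⊗ B, rpt q ∈ Vs → π (q ≫ f) = 1 := fun q hq =>
    (QuotientGroup.eq_one_iff _).2 (Subgroup.subset_closure ⟨q, hq, rfl⟩)
  have hA0 : ∀ p p' : 𝟙_ (Over (Spec (CommRingCat.of k))) ⟶ A, rpt p' ∈ connectedComponent (rpt p) →
      ∀ y ∈ B'.map π, π ((p⁻¹ * p') ≫ a) * y = y * π ((p⁻¹ * p') ≫ a) := by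
    rintro p p' hp _ ⟨_, ⟨y, rfl⟩, rfl⟩
    let τ : A ⟶ A := (toUnit A ≫ p⁻¹) * 𝟙 A
    have hτ : ∀ x : 𝟙_ (Over (Spec (CommRingCat.of k))) ⟶ A, x ≫ τ = p⁻¹ * x := fun x => by
      simp only [τ, MonObj.comp_mul, comp_toUnit_assoc, Category.comp_id]
      rw [toUnit_unique (toUnit _) (𝟙 _), Category.id_comp]
    let ψ : A ⟶ A ⊗ B := lift (𝟙 A) (toUnit A ≫ y)
    have hψ : ∀ x : 𝟙_ (Over (Spec (CommRingCat.of k))) ⟶ A, x ≫ ψ = lift x y := fun x => by
      apply CartesianMonoidalCategory.hom_ext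
      · simp [ψ]
      · simp only [ψ, Category.assoc, lift_snd, comp_toUnit_assoc]
        rw [toUnit_unique (toUnit _) (𝟙 _), Category.id_comp]
    have h1 := ψ.left.continuous.mapsTo_connectedComponent _ (τ.left.continuous.mapsTo_connectedComponent (rpt p) hp)
    rw [map_rpt, map_rpt, map_rpt, map_rpt, hτ, hτ, hψ, hψ, _root_.inv_mul_cancel] at h1
    have h2 := hπ _ (Set.mem_iUnion₂.2 ⟨_, ⟨lift 1 y, hf1 y, rfl⟩, h1⟩)
    rw [hfpt, lift_fst, lift_snd, map_commutatorElement] at h2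
    exact commutatorElement_eq_one_iff_mul_comm.1 h2
  have hB0 : ∀ p p' : 𝟙_ (Over (Spec (CommRingCat.of k))) ⟶ B, rpt p' ∈ connectedComponent (rpt p) →
      ∀ y ∈ A'.map π, π ((p⁻¹ * p') ≫ b) * y = y * π ((p⁻¹ * p') ≫ b) := by
    rintro p p' hp _ ⟨_, ⟨x, rfl⟩, rfl⟩
    let τ : B ⟶ B := (toUnit B ≫ p⁻¹) * 𝟙 B
    have hτ : ∀ y : 𝟙_ (Over (Spec (CommRingCat.of k))) ⟶ B, y ≫ τ = p⁻¹ * y := fun y => by
      simp only [τ, MonObj.comp_mul, comp_toUnit_assoc, Category.comp_id]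
      rw [toUnit_unique (toUnit _) (𝟙 _), Category.id_comp]
    let ψ : B ⟶ A ⊗ B := lift (toUnit B ≫ x) (𝟙 B)
    have hψ : ∀ y : 𝟙_ (Over (Spec (CommRingCat.of k))) ⟶ B, y ≫ ψ = lift x y := fun y => by
      apply CartesianMonoidalCategory.hom_ext
      · simp only [ψ, Category.assoc, lift_fst, comp_toUnit_assoc]
        rw [toUnit_unique (toUnit _) (𝟙 _), Category.id_comp]
      · simp [ψ]
    have h1 := ψ.left.continuous.mapsTo_connectedComponent _ (τ.left.continuous.mapsTo_connectedComponent (rpt p) hp)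
    rw [map_rpt, map_rpt, map_rpt, map_rpt, hτ, hτ, hψ, hψ, _root_.inv_mul_cancel] at h1
    have h2 := hπ _ (Set.mem_iUnion₂.2 ⟨_, ⟨lift x 1, hf1' x, rfl⟩, h1⟩)
    rw [hfpt, lift_fst, lift_snd, map_commutatorElement] at h2
    exact (commutatorElement_eq_one_iff_mul_comm.1 h2).symm
  have hcof : ∀ (Y : Over (Spec (CommRingCat.of k))) [GrpObj Y] [LocallyOfFiniteType Y.hom]
      [AlgebraicGeometry.IsNoetherian Y.left] (c : Y ⟶ G) [IsMonHom c] (P : Subgroup _),
      (∀ p p' : 𝟙_ (Over (Spec (CommRingCat.of k))) ⟶ Y, rpt p' ∈ connectedComponent (rpt p) →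
        π ((p⁻¹ * p') ≫ c) ∈ P) → Cof ((postHom c).range.map π) P := by
    intro Y _ _ _ c _ P hP
    classical
    haveI : JacobsonSpace Y.left := LocallyOfFiniteType.jacobsonSpace Y.hom
    haveI := TopologicalSpace.NoetherianSpace.finite_irreducibleComponents (α := Y.left) |>.fintype
    have hsel : ∀ Z : irreducibleComponents Y.left, ∃ p : 𝟙_ (Over (Spec (CommRingCat.of k))) ⟶ Y, rpt p ∈ (Z : Set Y.left) := fun Z => by
      obtain ⟨w, hw, hwc⟩ := nonempty_inter_closedPoints Z.2.1.nonempty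
        (isClosed_of_mem_irreducibleComponents _ Z.2).isLocallyClosed
      obtain ⟨p, rfl⟩ := exists_rpt hwc
      exact ⟨p, hw⟩
    choose P0 hP0 using hsel
    refine ⟨Finset.univ.image fun Z => π (P0 Z ≫ c), ?_⟩
    rintro _ ⟨_, ⟨p', rfl⟩, rfl⟩
    let Z : irreducibleComponents Y.left := ⟨_, irreducibleComponent_mem_irreducibleComponents (rpt p')⟩
    refine ⟨π (P0 Z ≫ c), Finset.mem_image_of_mem _ (Finset.mem_univ _), ⟨_, ⟨P0 Z, rfl⟩, rfl⟩, ?_⟩
    rw [← map_inv, ← map_mul, postHom_apply, ← GrpObj.inv_comp, ← MonObj.mul_comp]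
    refine hP _ _ ?_
    rw [← connectedComponent_eq (irreducibleComponent_subset_connectedComponent (hP0 Z))]
    exact mem_connectedComponent
  let A0 := A'.map π ⊓ Subgroup.centralizer (B'.map π : Set _)
  let B0 := B'.map π ⊓ Subgroup.centralizer (A'.map π : Set _)
  have cA : Cof (A'.map π) A0 := hcof A a A0 fun p p' hp =>
    ⟨⟨_, ⟨_, rfl⟩, rfl⟩, Subgroup.mem_centralizer_iff.2 fun y hy => (hA0 p p' hp y hy).symm⟩
  have cB : Cof (B'.map π) B0 := hcof B b B0 fun p p' hp =>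
    ⟨⟨_, ⟨_, rfl⟩, rfl⟩, Subgroup.mem_centralizer_iff.2 fun y hy => (hB0 p p' hp y hy).symm⟩
  haveI : (A'.map π).Normal := ‹A'.Normal›.map π (QuotientGroup.mk'_surjective D0)
  haveI : (B'.map π).Normal := ‹B'.Normal›.map π (QuotientGroup.mk'_surjective D0)
  have hfin : Finite ↥⁅A'.map π, B'.map π⁆ := finite_commutator_of_cof (A₀ := A0) (B₀ := B0) inf_le_left cA cB
    (fun x hx y hy => ((Subgroup.mem_centralizer_iff.1 hx.2) y hy).symm)
    (fun x hx y hy => ((Subgroup.mem_centralizer_iff.1 hx.2) y hy).symm)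
  rw [← Subgroup.map_commutator] at hfin
  have hsurj : ∀ u : C'.map π, ∃ r ∈ C', π r = u := fun u => u.2
  choose R hRC hR using hsurj
  haveI : Finite ↥(C'.map π) := hfin
  haveI : Fintype ↥(C'.map π) := Fintype.ofFinite _
  have hmem : ∀ z ∈ C', ∃ N, z ∈ bset CS N := fun z hz => by
    rw [show C' = Subgroup.closure CS from rfl] at hz
    induction hz using Subgroup.closure_induction with
    | mem z hz => exact ⟨1, mem_bset_one hz⟩
    | one => exact ⟨0, rfl⟩
    | mul x y _ _ hx hy =>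
      obtain ⟨N, hN⟩ := hx
      obtain ⟨M, hM⟩ := hy
      exact ⟨N + M, mul_mem_bset hN hM⟩
    | inv x _ hx =>
      obtain ⟨N, hN⟩ := hx
      exact ⟨N, inv_mem_bset hN⟩
  choose NR hNR using fun u => hmem (R u) (hRC u)
  have hK0W : ∀ (l : List Bool) (c : 𝟙_ (Over (Spec (CommRingCat.of k))) ⟶ src Xv l),
      c ≫ word (jv ≫ f) l ∈ bset CS l.length := fun l c => by
    induction l with
    | nil => rw [comp_word_nil]; rfl
    | cons e l ih =>
      rw [comp_word_cons, List.length_cons, Nat.add_comm, comp_letter]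
      refine mul_mem_bset ?_ (ih _)
      have h : (c ≫ fst Xv (src Xv l)) ≫ jv ≫ f ∈ CS := by
        rw [← Category.assoc, hfpt]
        exact ⟨_, ⟨_, rfl⟩, _, ⟨_, rfl⟩, rfl⟩
      cases e
      · exact inv_mem_bset (mem_bset_one h)
      · exact mem_bset_one h
  let τG : (𝟙_ (Over (Spec (CommRingCat.of k))) ⟶ G) → (G ⟶ G) := fun r => (toUnit G ≫ r⁻¹) * 𝟙 G
  have hτG : ∀ r z : 𝟙_ (Over (Spec (CommRingCat.of k))) ⟶ G, z ≫ τG r = r⁻¹ * z := fun r z => by
    simp only [τG, MonObj.comp_mul, comp_toUnit_assoc, Category.comp_id]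
    rw [toUnit_unique (toUnit _) (𝟙 _), Category.id_comp]
  let RS : Set G.left := ⋃ u : C'.map π, (τG (R u)).left ⁻¹' Set.range i0.left
  have hRS : IsClosed RS := isClosed_iUnion_of_finite fun u =>
    i0.left.isClosedEmbedding.isClosed_range.preimage (τG (R u)).left.continuous
  have hCR : ∀ z ∈ C', rpt z ∈ RS := fun z hz => by
    refine Set.mem_iUnion.2 ⟨⟨π z, z, hz, rfl⟩, ?_⟩
    rw [Set.mem_preimage, map_rpt, hτG]
    obtain ⟨x, hx⟩ := hDK0 ((QuotientGroup.eq (s := D0)).1 (hR ⟨π z, z, hz, rfl⟩))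
    rw [← hx]
    exact ⟨rpt x, map_rpt _ _⟩
  refine ⟨?_, RS, hRS, fun z => ⟨fun hz => ?_, hCR z⟩⟩
  swap
  · obtain ⟨u, hu⟩ := Set.mem_iUnion.1 hz
    rw [Set.mem_preimage, map_rpt, hτG] at hu
    obtain ⟨x, hx⟩ := exists_rat_lift i0 ((R u)⁻¹ * z) (IsLocalRing.closedPoint k) hu
    rw [show z = R u * ((R u)⁻¹ * z) from (_root_.mul_inv_cancel_left _ _).symm, ← hx]
    exact mul_mem (hRC u) (hDC (hK0D x))
  refine ⟨Finset.univ.sup NR + m.length, fun z hz => ?_⟩
  let u : C'.map π := ⟨π z, z, hz, rfl⟩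
  obtain ⟨x, hx⟩ := hDK0 ((QuotientGroup.eq (s := D0)).1 (hR u))
  obtain ⟨c, rfl⟩ := hm x
  rw [← _root_.mul_inv_cancel_left (R u) z, ← hx]
  refine mul_mem_bset (bset_mono _ (Finset.le_sup (Finset.mem_univ u)) (hNR u)) ?_
  rw [postHom_apply, Category.assoc, word_comp, hf0]
  exact hK0W m c

end Groth.Agent.SubGen
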